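import Groth.Agent.RegImm10.BlowCech.Sections
import Groth.Agent.Curves2.IdealFrame
import Groth.Agent.MP99.Basic
import Groth.Agent.Inv57.OfTensor
import Groth.Agent.Mero90.Frames

/-!
The powers of the exceptional ideal and the inverse of the exceptional ideal as twists.
-/

set_option autoImplicit false
set_option linter.style.haveILetI false
set_option backward.isDefEq.respectTransparency.types false

noncomputable section

universe u

open CategoryTheory CategoryTheory.Limits AlgebraicGeometry Opposite TopologicalSpace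
open scoped nonZeroDivisors

namespace Groth.Agent.RegImm10.BlowCech

open Var76 (LineBundle.IsFrame LineBundle.res LineBundle.res_res LineBundle.res_smul)

variable {X X' : Scheme.{u}} {b : X' ⟶ X} {I : X.IdealSheafData}

namespace Cover

variable (S : Cover b I)

theorem exceptional_ideal (i : Fin S.r) (n : ℕ) :
    ((BlowUp.exceptional b I) ^ n).ideal ⟨(S.C i).W, (S.C i).affine⟩ =
      Ideal.span {pb b (S.C i).le (S.a i) ^ n} := by
  rw [Scheme.IdealSheafData.ideal_pow, Pi.pow_apply, ← Ideal.span_singleton_pow,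
    MP99.ideal_comap I b ⟨S.U, S.hU⟩ ⟨(S.C i).W, (S.C i).affine⟩ (S.C i).le]
  congr 1
  have hgen : ∀ (K : Ideal Γ(X, S.U)), Ideal.span (Set.range S.a) = K →
      K.map (pb b (S.C i).le) = Ideal.span {pb b (S.C i).le (S.a i)} := by
    rintro K rfl
    refine le_antisymm ?_ ((Ideal.span_singleton_le_iff_mem _).2
      (Ideal.mem_map_of_mem _ (Ideal.subset_span ⟨i, rfl⟩)))
    rw [Ideal.map_span, Ideal.span_le]
    rintro _ ⟨_, ⟨j, rfl⟩, rfl⟩
    exact Ideal.mem_span_singleton'.2 ⟨_, (S.cdiv_spec i j).symm⟩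
  exact hgen _ S.span_eq

/-- The frame of a power of the exceptional ideal. -/
def eI (n : ℕ) (i : Fin S.r) : Γ(ClSub.idealMod ((BlowUp.exceptional b I) ^ n), (S.C i).W) :=
  (Curves2.exists_idealSect_of_mem _ ⟨(S.C i).W, (S.C i).affine⟩
    (r := pb b (S.C i).le (S.a i) ^ n)
    ((S.exceptional_ideal i n).ge (Ideal.mem_span_singleton_self _))).choose

theorem idealSect_eI (n : ℕ) (i : Fin S.r) :
    OmegaSh.idealSect ((BlowUp.exceptional b I) ^ n) (S.C i).W (S.eI n i) = pb b (S.C i).le (S.a i) ^ n :=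
  (Curves2.exists_idealSect_of_mem _ ⟨(S.C i).W, (S.C i).affine⟩
    (r := pb b (S.C i).le (S.a i) ^ n)
    ((S.exceptional_ideal i n).ge (Ideal.mem_span_singleton_self _))).choose_spec

theorem frame_eI (n : ℕ) (i : Fin S.r) :
    LineBundle.IsFrame (ClSub.idealMod ((BlowUp.exceptional b I) ^ n)) (S.C i).W (S.eI n i) :=
  Curves2.isFrame_of_span _ ⟨(S.C i).W, (S.C i).affine⟩ (pow_mem (S.C i).nzd n)
    (S.exceptional_ideal i n) _ (S.idealSect_eI n i)

theorem idealSect_eI_res (n : ℕ) (i : Fin S.r) {V : X'.Opens} (h : V ≤ (S.C i).W) :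
    OmegaSh.idealSect ((BlowUp.exceptional b I) ^ n) V (LineBundle.res _ h (S.eI n i)) =
      pb b (h.trans (S.C i).le) (S.a i) ^ n := by
  rw [Curves2.idealSect_res, idealSect_eI, map_pow, pb_res]

/-- The powers of the exceptional ideal. -/
def twistPow (n : ℕ) : S.Twist (ClSub.idealMod ((BlowUp.exceptional b I) ^ n)) (n : ℤ) where
  e := S.eI n
  frame := S.frame_eI n
  trans {m} t k l c hc := by
    have h := congrArg (fun s => S.φ t (OmegaSh.idealSect ((BlowUp.exceptional b I) ^ n) (S.V t) s)) hc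
    simp only [Omega57.idealSect_smul, idealSect_eI_res, map_mul, map_pow, S.φ_pb] at h
    simpa only [zpow_natCast, Units.val_pow_eq_pow_val, coe_au] using h

section Inverse

variable {F : X'.Modules}
  (e : CohB1.tensorMod F (ClSub.idealMod (BlowUp.exceptional b I)) ≅ Coh.structureModule X')

theorem existsUnique_ev_eq_one {N : X'.Modules} (e : CohB1.tensorMod F N ≅ Coh.structureModule X')
    {W : X'.Opens} {j : Γ(N, W)} (hj : LineBundle.IsFrame N W j) :
    ∃ l : Γ(F, W), Inv57.ev e l j = 1 := by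
  have uniq : ∀ (P : X'.Opens) (hP : P ≤ W) (l l' : Γ(F, P)),
      Inv57.ev e l (LineBundle.res N hP j) = 1 → Inv57.ev e l' (LineBundle.res N hP j) = 1 → l = l' := by
    intro P hP l l' h h'
    obtain ⟨a, ha⟩ := (Inv57.isFrame_of_ev_eq_one e h P le_rfl).2 l'
    have hl : a • l = l' := by simpa [LineBundle.res] using ha
    rw [← hl, Inv57.ev_smul_left, h, mul_one] at h'
    rw [← hl, h', one_smul]
  have hloc : ∀ x : W, ∃ (P : X'.Opens) (hP : P ≤ W) (l : Γ(F, P)),
      x.1 ∈ P ∧ Inv57.ev e l (LineBundle.res N hP j) = 1 := by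
    intro x
    obtain ⟨U, l, n, hxU, hln⟩ := Inv57.exists_ev_eq_one e x.1
    obtain ⟨c, hc⟩ := (hj (U ⊓ W) inf_le_right).2 (LineBundle.res N inf_le_left n)
    refine ⟨U ⊓ W, inf_le_right, c • LineBundle.res F inf_le_left l, ⟨hxU, x.2⟩, ?_⟩
    rw [Inv57.ev_smul_left, ← Inv57.ev_smul_right,
      show c • LineBundle.res N inf_le_right j = _ from hc, Inv57.ev_res, hln]
    exact map_one (X'.presheaf.map _).hom
  choose P hP l hxP hl using hloc
  have hcompat : TopCat.Presheaf.IsCompatible (⟨F.presheaf, F.isSheaf⟩ : TopCat.Sheaf Ab X').obj P l := by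
    intro y z
    refine uniq _ (inf_le_left.trans (hP y)) _ _ ?_ ?_
    · rw [← LineBundle.res_res N (hP y) inf_le_left]
      refine (Inv57.ev_res e _ _ _).trans ?_
      rw [hl]
      exact map_one (X'.presheaf.map _).hom
    · rw [← LineBundle.res_res N (hP z) inf_le_right]
      refine (Inv57.ev_res e _ _ _).trans ?_
      rw [hl]
      exact map_one (X'.presheaf.map _).hom
  obtain ⟨s, hs, -⟩ := TopCat.Sheaf.existsUnique_gluing' (⟨F.presheaf, F.isSheaf⟩ : TopCat.Sheaf Ab X')
    P W (fun y => homOfLE (hP y)) (fun y hy => Opens.mem_iSup.mpr ⟨⟨y, hy⟩, hxP ⟨y, hy⟩⟩) l hcompat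
  refine ⟨s, ?_⟩
  refine TopCat.Sheaf.eq_of_locally_eq' X'.sheaf P W (fun y => homOfLE (hP y))
    (fun y hy => Opens.mem_iSup.mpr ⟨⟨y, hy⟩, hxP ⟨y, hy⟩⟩) _ _ fun y => ?_
  show X'.presheaf.map (homOfLE (hP y)).op (Inv57.ev e s j) = X'.presheaf.map (homOfLE (hP y)).op 1
  rw [map_one]
  refine (Inv57.ev_res e (hP y) s j).symm.trans ?_
  rw [show LineBundle.res F (hP y) s = l y from hs y, hl]

theorem idealSect_one_eI (i : Fin S.r) :
    ∃ j : Γ(ClSub.idealMod (BlowUp.exceptional b I), (S.C i).W),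
      LineBundle.IsFrame (ClSub.idealMod (BlowUp.exceptional b I)) (S.C i).W j ∧
      OmegaSh.idealSect (BlowUp.exceptional b I) (S.C i).W j = pb b (S.C i).le (S.a i) := by
  have h := S.exceptional_ideal i 1
  rw [pow_one, pow_one] at h
  obtain ⟨j, hj⟩ := Curves2.exists_idealSect_of_mem _ ⟨(S.C i).W, (S.C i).affine⟩
    (h.ge (Ideal.mem_span_singleton_self _))
  exact ⟨j, Curves2.isFrame_of_span _ ⟨(S.C i).W, (S.C i).affine⟩ (S.C i).nzd h _ hj, hj⟩

/-- The inverse of the exceptional ideal. -/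
def twistInv : S.Twist F (-1) where
  e i := (existsUnique_ev_eq_one e (S.idealSect_one_eI i).choose_spec.1).choose
  frame i := Inv57.isFrame_of_ev_eq_one e
    (existsUnique_ev_eq_one e (S.idealSect_one_eI i).choose_spec.1).choose_spec
  trans {m} t k l c hc := by
    set j := fun i => (S.idealSect_one_eI i).choose with hjdef
    have hj : ∀ i, OmegaSh.idealSect (BlowUp.exceptional b I) (S.C i).W (j i) = pb b (S.C i).le (S.a i) :=
      fun i => (S.idealSect_one_eI i).choose_spec.2
    set ll := fun i => (existsUnique_ev_eq_one e (S.idealSect_one_eI i).choose_spec.1).choose with hlldef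
    have hll : ∀ i, Inv57.ev e (ll i) (j i) = 1 :=
      fun i => (existsUnique_ev_eq_one e (S.idealSect_one_eI i).choose_spec.1).choose_spec
    have hev : ∀ q, Inv57.ev e (LineBundle.res F (S.V_le t q) (ll (t q)))
        (LineBundle.res _ (S.V_le t q) (j (t q))) = 1 := fun q => by
      rw [Inv57.ev_res, hll]
      exact map_one (X'.presheaf.map _).hom
    have hsw : pb b (S.V_le_base t) (S.a (t k)) • LineBundle.res _ (S.V_le t l) (j (t l)) =
        pb b (S.V_le_base t) (S.a (t l)) • LineBundle.res _ (S.V_le t k) (j (t k)) := by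
      apply Omega57.idealSect_injective
      rw [Omega57.idealSect_smul, Omega57.idealSect_smul, Curves2.idealSect_res, Curves2.idealSect_res,
        hj, hj, pb_res, pb_res, mul_comm]
    have h : c * pb b (S.V_le_base t) (S.a (t k)) = pb b (S.V_le_base t) (S.a (t l)) := by
      have h1 := congrArg (fun s => Inv57.ev e s (pb b (S.V_le_base t) (S.a (t l)) •
        LineBundle.res _ (S.V_le t k) (j (t k)))) hc
      simp only [Inv57.ev_smul_right] at h1
      rw [hev k, mul_one, ← Inv57.ev_smul_right, ← hsw, Inv57.ev_smul_right, Inv57.ev_smul_left, hev l,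
        mul_one] at h1
      rw [mul_comm] at h1
      exact h1
    have h' := congrArg (S.φ t) h
    rw [map_mul, S.φ_pb, S.φ_pb, ← coe_au S.a t k, ← coe_au S.a t l] at h'
    rw [zpow_neg_one, zpow_neg_one, Units.mul_inv_eq_iff_eq_mul, Units.eq_inv_mul_iff_mul_eq, mul_comm]
    exact h'

end Inverse

end Cover

end Groth.Agent.RegImm10.BlowCech
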