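import Groth.Agent.RegImm10.BlowCech.Geom
import Groth.Agent.CycCov52.Divisor
import Groth.Prelude.Def_RegImm

/-!
Small affine opens with a Koszul regular family of generators of the centre.
-/

set_option autoImplicit false
set_option linter.style.haveILetI false
set_option backward.isDefEq.respectTransparency.types false

noncomputable section

universe u

open CategoryTheory AlgebraicGeometry Opposite TopologicalSpace

namespace Groth.Agent.RegImm10.BlowCech

open Koszul19

theorem kR_replicate_one {A : Type u} [CommRing A] : ∀ N : ℕ, KR (List.replicate N (1 : A))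
  | 0 => kR_nil
  | N + 1 => kR_cons_of_regular 1 _ (kR_replicate_one N) fun a ha => by rwa [one_mul] at ha

theorem ofList_replicate_one {A : Type u} [CommRing A] {N : ℕ} (hN : 1 ≤ N) :
    Ideal.ofList (List.replicate N (1 : A)) = ⊤ := by
  rw [Ideal.eq_top_iff_one]
  exact Ideal.subset_span (List.mem_replicate.2 ⟨by omega, rfl⟩)

variable {X X' : Scheme.{u}}

/-- An affine open with a Koszul regular family of at least `N` generators of `I`. -/
def HasGens (I : X.IdealSheafData) (N : ℕ) : Prop :=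
  ∀ x : X, ∃ U : X.affineOpens, x ∈ U.1 ∧
    ∃ rs : List Γ(X, U.1), N ≤ rs.length ∧ KR rs ∧ I.ideal U = Ideal.ofList rs

theorem hasGens_of_support {I : X.IdealSheafData} {N : ℕ} (hN : 1 ≤ N)
    (h : ∀ x ∈ I.support, ∃ U : X.affineOpens, x ∈ U.1 ∧
      ∃ rs : List Γ(X, U.1), N ≤ rs.length ∧ KR rs ∧ I.ideal U = Ideal.ofList rs) : HasGens I N := by
  intro x
  by_cases hx : x ∈ I.support
  · exact h x hx
  · obtain ⟨_, ⟨W, hW, rfl⟩, hxW, hle⟩ :=
      X.isBasis_affineOpens.exists_subset_of_mem_open (show x ∈ (I.support.compl : Set X) from hx)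
        I.support.compl.2
    refine ⟨⟨W, hW⟩, hxW, List.replicate N 1, by simp, kR_replicate_one N, ?_⟩
    rw [ofList_replicate_one hN]
    exact CycCov52.ideal_eq_top_of_disjoint I ⟨W, hW⟩ fun z hz => hle hz

theorem exists_cover {b : X' ⟶ X} {I : X.IdealSheafData} (hb : BlowUp.IsBlowUp b I) {N : ℕ}
    (h : HasGens I N) (x : X) (O : X.Opens) (hx : x ∈ O) :
    ∃ S : Cover b I, x ∈ S.U ∧ S.U ≤ O ∧ N ≤ S.r := by
  obtain ⟨U, hxU, rs, hN, hkr, hI⟩ := h x
  obtain ⟨g, hg, hxg⟩ := U.2.exists_basicOpen_le (V := O) ⟨x, hx⟩ hxU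
  let V : X.affineOpens := X.affineBasicOpen g
  letI : Algebra Γ(X, U.1) Γ(X, V.1) := (X.presheaf.map (homOfLE (X.basicOpen_le g)).op).hom.toAlgebra
  haveI : IsLocalization.Away g Γ(X, V.1) := U.2.isLocalization_basicOpen g
  haveI : Module.Flat Γ(X, U.1) Γ(X, V.1) := IsLocalization.flat _ (Submonoid.powers g)
  let l : List Γ(X, V.1) := rs.map (algebraMap _ _)
  have hl : I.ideal V = Ideal.ofList l := by
    rw [show I.ideal V = (I.ideal U).map (algebraMap Γ(X, U.1) Γ(X, V.1)) from
      (I.map_ideal_basicOpen U g).symm, hI, Ideal.map_ofList]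
  have hspan : Ideal.span (Set.range l.get) = I.ideal V := by
    rw [hl, Ideal.ofList, Set.range_list_get]
  refine ⟨{ hb := hb, U := V.1, hU := V.2, r := l.length, a := l.get, span_eq := hspan, kr := ?_,
            C := fun i => (nonempty_chart hb V.2 hspan i).some },
    hxg, hg, by simpa [l] using hN⟩
  rw [List.ofFn_get]
  exact hkr.map

theorem coe_support_ker {Y : Scheme.{u}} (i : Y ⟶ X) [IsClosedImmersion i] :
    (i.ker.support : Set X) = Set.range i := by
  rw [Scheme.Hom.support_ker]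
  exact i.isClosedEmbedding.isClosed_range.closure_eq

theorem hasGens_of_regular {Y : Scheme.{u}} (i : Y ⟶ X) [IsClosedImmersion i] {d : ℕ} (hd : 1 ≤ d)
    (hi : RegImm.IsRegularImmersionOfCodim .regular d i) : HasGens i.ker d := by
  refine hasGens_of_support hd fun x hx => ?_
  obtain ⟨z, rfl⟩ := (coe_support_ker i).le hx
  obtain ⟨U, hz, -, rs, hlen, hreg, hker⟩ := hi.2 z
  exact ⟨U, hz, rs, hlen.ge, kR_of_isWeaklyRegular rs hreg.1, by rw [Scheme.Hom.ker_apply, hker]⟩

theorem hasGens_of_koszul {Y : Scheme.{u}} (i : Y ⟶ X) [IsClosedImmersion i]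
    (hi : RegImm.IsRegularImmersion .koszul i) (hd : Dense (Set.range i)ᶜ) : HasGens i.ker 1 := by
  refine hasGens_of_support le_rfl fun x hx => ?_
  obtain ⟨z, rfl⟩ := (coe_support_ker i).le hx
  obtain ⟨U, hz, -, rs, hkr, hker⟩ := hi.2 z
  have hI : i.ker.ideal U = Ideal.ofList rs := by rw [Scheme.Hom.ker_apply, hker]
  refine ⟨U, hz, rs, ?_, (kR_iff rs).2 hkr, hI⟩
  by_contra hlen
  obtain rfl : rs = [] := by
    cases rs with
    | nil => rfl
    | cons => simp at hlen
  obtain ⟨y, hyU, hy⟩ := hd.inter_open_nonempty _ U.1.2 ⟨_, hz⟩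
  refine hy ((coe_support_ker i).le ?_)
  have h2 : y ∈ X.zeroLocus (i.ker.ideal U : Set Γ(X, U.1)) ∩ (U.1 : Set X) := by
    refine ⟨?_, hyU⟩
    rw [hI]
    refine (Scheme.mem_zeroLocus_iff X _ y).2 fun f hf => ?_
    obtain rfl : f = 0 := by simpa [Ideal.ofList] using hf
    simp
  rw [← i.ker.coe_support_inter] at h2
  exact h2.1

end Groth.Agent.RegImm10.BlowCech
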