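import Groth.Agent.RegImm10.BlowCech.Cohom
import Groth.Agent.RegImm10.BlowCech.Instances
import Groth.Agent.RegImm10.BlowCech.Locus
import Groth.Agent.EGAProj74.BasisIso
import Groth.Agent.PP93.PicInj
import Groth.Agent.Omega57.Diag

/-!
Direct images of the twists of a blow-up in a Koszul regular centre.
-/

set_option autoImplicit false
set_option linter.style.haveILetI false
set_option backward.isDefEq.respectTransparency.types false

noncomputable section

universe u

open CategoryTheory CategoryTheory.Limits AlgebraicGeometry Opposite TopologicalSpace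

namespace Groth.Agent.RegImm10.BlowCech

open Var76 (LineBundle.IsFrame LineBundle.res LineBundle.res_res LineBundle.res_smul)

variable {X X' : Scheme.{u}} {b : X' ⟶ X} {I : X.IdealSheafData}

theorem subsingleton_HE_base {N : ℕ} {F : X'.Modules} [F.IsQuasicoherent] {n : ℤ}
    (hn : -(N : ℤ) < n) (S : Cover b I) (hS : N ≤ S.r) (T : S.Twist F n) (p : ℕ) :
    Subsingleton (Coh69.HE (Coh.toAb F) (p + 1) (b ⁻¹ᵁ S.U)) :=
  T.subsingleton_HE (by omega) p

theorem isZero_twist (hb : BlowUp.IsBlowUp b I) {N : ℕ} (hI : HasGens I N) (F : X'.Modules)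
    [F.IsQuasicoherent] (n : ℤ) (hn : -(N : ℤ) < n) (T : ∀ S : Cover b I, S.Twist F n) {q : ℕ}
    (hq : 1 ≤ q) : IsZero ((Coh.RpushAb b q).obj (Coh.toAb F)) := by
  obtain ⟨p, rfl⟩ : ∃ p, q = p + 1 := ⟨q - 1, by omega⟩
  refine Coh69.isZero_RpushAb_of_subsingleton b (Coh.toAb F) (p + 1) fun O x hx => ?_
  obtain ⟨S, hxS, hSO, hS⟩ := exists_cover hb hI x O hx
  exact ⟨S.U, hSO, hxS, subsingleton_HE_base hn S hS (T S) p⟩

/-- A global section which is `1` in the trivialisations identifies functions of the base with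
sections of the twist. -/
theorem Cover.Twist.bijective_smul {S : Cover b I} {F : X'.Modules} {n : ℤ} (T : S.Twist F n)
    (hn : -(S.r : ℤ) < n) (hn0 : n ≤ 0) (s₁ : Γ(F, ⊤))
    (h1 : ∀ i : Fin S.r, T.ψ (fun _ : Fin 1 => i) (LineBundle.res F le_top s₁) = 1) :
    Function.Bijective (fun c : Γ(X, S.U) => b.app S.U c • LineBundle.res F (le_top : b ⁻¹ᵁ S.U ≤ ⊤) s₁) := by
  have key : ∀ (c : Γ(X, S.U)) (i : Fin S.r),
      T.ψ (fun _ : Fin 1 => i) (LineBundle.res F (S.V_le_base _)
        (b.app S.U c • LineBundle.res F (le_top : b ⁻¹ᵁ S.U ≤ ⊤) s₁)) =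
        algebraMap Γ(X, S.U) (L S.a fun _ : Fin 1 => i) c := by
    intro c i
    set t : Fin 1 → Fin S.r := fun _ => i
    obtain ⟨d, hd⟩ := (T.bij t).2 (LineBundle.res F (le_top : S.V t ≤ ⊤) s₁)
    have hd' : T.co t (LineBundle.res F (le_top : S.V t ≤ ⊤) s₁) = d := T.co_eq t hd
    have h2 := h1 i
    rw [T.ψ_apply, hd'] at h2
    rw [LineBundle.res_smul, LineBundle.res_res, T.ψ_apply]
    rw [T.co_eq t (c := X'.presheaf.map (homOfLE (S.V_le_base t)).op (b.app S.U c) * d)
      (by rw [mul_smul]; exact congrArg _ hd), map_mul, mul_assoc, h2, mul_one]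
    exact S.φ_pb t c
  constructor
  · intro c c' h
    obtain ⟨d, -, hu⟩ := T.existsUnique_base hn hn0 (b.app S.U c • LineBundle.res F le_top s₁)
    refine (hu c (key c)).trans (hu c' fun i => ?_).symm
    rw [← key c' i]
    exact congrArg (fun s => T.ψ _ (LineBundle.res F (S.V_le_base _) s)) h
  · intro s
    obtain ⟨c, hc, -⟩ := T.existsUnique_base hn hn0 s
    exact ⟨c, T.eq_of_ψ fun i => (key c i).trans (hc i).symm⟩

theorem isIso_unitHom_push (hb : BlowUp.IsBlowUp b I) {N : ℕ} (hI : HasGens I N) (F : X'.Modules)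
    (n : ℤ) (hn : -(N : ℤ) < n) (hn0 : n ≤ 0) (T : ∀ S : Cover b I, S.Twist F n) (s₁ : Γ(F, ⊤))
    (h1 : ∀ (S : Cover b I) (i : Fin S.r), (T S).ψ (fun _ : Fin 1 => i) (LineBundle.res F le_top s₁) = 1) :
    IsIso (EGA73.unitHom ((Scheme.Modules.pushforward b).obj F)
      (s₁ : Γ((Scheme.Modules.pushforward b).obj F, (⊤ : X.Opens)))) := by
  refine EGAProj74.isIso_of_basis _ {V | ∃ S : Cover b I, N ≤ S.r ∧ S.U = V} (fun W z hz => ?_) ?_
  · obtain ⟨S, hzS, hSW, hS⟩ := exists_cover hb hI z W hz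
    exact ⟨S.U, ⟨S, hS, rfl⟩, hzS, hSW⟩
  · rintro _ ⟨S, hS, rfl⟩
    exact (T S).bijective_smul (by omega) hn0 s₁ (h1 S)

/-- The structure sheaf as a twist. -/
def Cover.twistOne (S : Cover b I) : S.Twist (Coh.structureModule X') 0 where
  e i := LineBundle.res _ le_top (OmegaSh.strSect X' ⊤ 1)
  frame i := (PP93.isFrame_one X').res le_top
  trans {m} t k l c hc := by
    simp only [LineBundle.res_res] at hc
    have h : c = 1 := (PP93.isFrame_one X' (S.V t) le_top).1 (hc.trans (one_smul _ _).symm)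
    rw [h, map_one, one_mul, zpow_zero, zpow_zero]

theorem app_bijective (hb : BlowUp.IsBlowUp b I) {N : ℕ} (hN : 1 ≤ N) (hI : HasGens I N) (U : X.Opens) :
    Function.Bijective (b.app U) := by
  let F := Coh.structureModule X'
  let g := EGA73.unitHom ((Scheme.Modules.pushforward b).obj F)
    (OmegaSh.strSect X' ⊤ 1 : Γ((Scheme.Modules.pushforward b).obj F, (⊤ : X.Opens)))
  haveI : IsIso g := isIso_unitHom_push hb hI F 0 (by omega) le_rfl (fun S => S.twistOne)
    (OmegaSh.strSect X' ⊤ 1) fun S i => by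
      rw [Cover.Twist.ψ_apply, zpow_zero, Units.val_one, mul_one, (S.twistOne).co_eq _ (c := 1) ?_,
        map_one]
      rw [one_smul]
      exact LineBundle.res_res _ _ _ _
  have hbij := (ConcreteCategory.isIso_iff_bijective (g.app U)).1
    (Scheme.Modules.Hom.isIso_iff_isIso_app.1 inferInstance U)
  have heq : ∀ c : Γ(X, U), g.app U c = OmegaSh.strSect X' (b ⁻¹ᵁ U) (b.app U c) := by
    intro c
    refine (EGA73.unitHom_app _ _ U c).trans ?_
    show b.app U c * X'.presheaf.map (homOfLE (le_top : b ⁻¹ᵁ U ≤ ⊤)).op 1 = b.app U c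
    rw [map_one, mul_one]
  exact ⟨fun c c' h => hbij.1 ((heq c).trans ((congrArg (OmegaSh.strSect X' (b ⁻¹ᵁ U)) h).trans (heq c').symm)),
    fun y => (hbij.2 (OmegaSh.strSect X' (b ⁻¹ᵁ U) y)).imp fun c hc => (heq c).symm.trans hc⟩

section Inverse

variable {F : X'.Modules}
  (e : CohB1.tensorMod F (ClSub.idealMod (BlowUp.exceptional b I)) ≅ Coh.structureModule X')

include e in
theorem exists_section_inverse (hb : BlowUp.IsBlowUp b I) :
    ∃ s : Γ(F, ⊤), ∀ (P : X'.Opens) (j : Γ(ClSub.idealMod (BlowUp.exceptional b I), P)),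
      Inv57.ev e (LineBundle.res F le_top s) j = OmegaSh.idealSect (BlowUp.exceptional b I) P j := by
  let J := BlowUp.exceptional b I
  let M := ClSub.idealMod J
  have hinv : PicF.IsInvertible M := (Curves2.isInvertible_idealMod_iff J).2 hb.1
  have hloc : ∀ x : X', ∃ (W : X'.Opens) (s : Γ(F, W)), x ∈ W ∧ (∃ j, LineBundle.IsFrame M W j) ∧
      ∀ (P : X'.Opens) (h : P ≤ W) (j : Γ(M, P)),
        Inv57.ev e (LineBundle.res F h s) j = OmegaSh.idealSect J P j := by
    intro x
    obtain ⟨W, hxW, j, hj⟩ := Mero90.exists_frame' hinv x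
    obtain ⟨l, hl⟩ := Cover.existsUnique_ev_eq_one e hj
    refine ⟨W, OmegaSh.idealSect J W j • l, hxW, ⟨j, hj⟩, fun P h j' => ?_⟩
    obtain ⟨c, rfl⟩ := (hj P h).2 j'
    rw [LineBundle.res_smul, Inv57.ev_smul_left, Inv57.ev_smul_right, Inv57.ev_res, hl,
      show Var76.ZeroScheme.fres h (1 : Γ(X', W)) = 1 from map_one _, mul_one, Omega57.idealSect_smul,
      Curves2.idealSect_res, mul_comm]
  choose W s hxW hfr hs using hloc
  have uniq : ∀ (x : X') (P : X'.Opens) (hP : P ≤ W x) (u u' : Γ(F, P)),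
      (∀ j : Γ(M, P), Inv57.ev e u j = OmegaSh.idealSect J P j) →
      (∀ j : Γ(M, P), Inv57.ev e u' j = OmegaSh.idealSect J P j) → u = u' := by
    intro x P hP u u' h h'
    obtain ⟨j, hj⟩ := hfr x
    obtain ⟨l, hl⟩ := Cover.existsUnique_ev_eq_one e (hj.res hP)
    obtain ⟨a, ha⟩ := (Inv57.isFrame_of_ev_eq_one e hl P le_rfl).2 u
    obtain ⟨a', ha'⟩ := (Inv57.isFrame_of_ev_eq_one e hl P le_rfl).2 u'
    have hu : a • l = u := by simpa [LineBundle.res] using ha
    have hu' : a' • l = u' := by simpa [LineBundle.res] using ha'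
    have := (h (LineBundle.res M hP j)).trans (h' (LineBundle.res M hP j)).symm
    rw [← hu, ← hu', Inv57.ev_smul_left, Inv57.ev_smul_left, hl, mul_one, mul_one] at this
    rw [← hu, ← hu', this]
  have hcompat : TopCat.Presheaf.IsCompatible (⟨F.presheaf, F.isSheaf⟩ : TopCat.Sheaf Ab X').obj W s := by
    intro x y
    exact uniq x _ inf_le_left _ _ (fun j => hs x _ inf_le_left j) fun j => hs y _ inf_le_right j
  obtain ⟨(u : Γ(F, ⊤)), hu, -⟩ := TopCat.Sheaf.existsUnique_gluing' (⟨F.presheaf, F.isSheaf⟩ : TopCat.Sheaf Ab X')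
    W ⊤ (fun x => homOfLE le_top) (fun x _ => Opens.mem_iSup.mpr ⟨x, hxW x⟩) s hcompat
  refine ⟨u, fun P j => ?_⟩
  refine TopCat.Sheaf.eq_of_locally_eq' X'.sheaf (fun x : P => P ⊓ W x) P (fun x => homOfLE inf_le_left)
    (fun x hx => Opens.mem_iSup.mpr ⟨⟨x, hx⟩, hx, hxW x⟩) _ _ fun x => ?_
  show X'.presheaf.map (homOfLE (inf_le_left : P ⊓ W x.1 ≤ P)).op (Inv57.ev e (LineBundle.res F le_top u) j) =
    X'.presheaf.map (homOfLE (inf_le_left : P ⊓ W x.1 ≤ P)).op (OmegaSh.idealSect J P j)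
  refine (Inv57.ev_res e inf_le_left _ _).symm.trans ?_
  rw [← Curves2.idealSect_res, LineBundle.res_res,
    ← LineBundle.res_res F (le_top : W x.1 ≤ ⊤) (inf_le_right : P ⊓ W x.1 ≤ W x.1) u,
    show LineBundle.res F (le_top : W x.1 ≤ ⊤) u = s x.1 from hu x.1]
  exact hs x.1 _ inf_le_right _

include e in
theorem nonempty_push_inverse (hb : BlowUp.IsBlowUp b I) {N : ℕ} (hN : 2 ≤ N) (hI : HasGens I N) :
    Nonempty ((Scheme.Modules.pushforward b).obj F ≅ Coh.structureModule X) := by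
  obtain ⟨s, hs⟩ := exists_section_inverse e hb
  haveI := isIso_unitHom_push hb hI F (-1) (by omega) (by omega) (fun S => S.twistInv e) s fun S i => by
    let t : Fin 1 → Fin S.r := fun _ => i
    let j := (S.idealSect_one_eI i).choose
    have hj := (S.idealSect_one_eI i).choose_spec
    let l := (S.twistInv e).e i
    have hl : Inv57.ev e l j = 1 := (Cover.existsUnique_ev_eq_one e hj.1).choose_spec
    have hev : Inv57.ev e (LineBundle.res F (S.V_le t 0) l) (LineBundle.res _ (S.V_le t 0) j) = 1 := by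
      rw [Inv57.ev_res, hl]
      exact map_one (X'.presheaf.map _).hom
    obtain ⟨c, hc⟩ := ((S.twistInv e).bij t).2 (LineBundle.res F (le_top : S.V t ≤ ⊤) s)
    have h1 := hs (S.V t) (LineBundle.res _ (S.V_le t 0) j)
    rw [← show c • LineBundle.res F (S.V_le t 0) l = _ from hc, Inv57.ev_smul_left, hev, mul_one,
      Curves2.idealSect_res, hj.2, pb_res] at h1
    rw [Cover.Twist.ψ_apply, (S.twistInv e).co_eq t hc, h1, S.φ_pb, zpow_neg_one, ← coe_au S.a t 0,
      Units.mul_inv]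
  exact ⟨(asIso (EGA73.unitHom ((Scheme.Modules.pushforward b).obj F)
    (s : Γ((Scheme.Modules.pushforward b).obj F, (⊤ : X.Opens))))).symm⟩

end Inverse

end Groth.Agent.RegImm10.BlowCech
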