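import Groth.Agent.RegImm10.BlowCech.Main

/-!
The subgroups of twists as translates of a subring.
-/

set_option autoImplicit false
set_option linter.style.haveILetI false
set_option backward.isDefEq.respectTransparency.types false

noncomputable section

universe u

namespace Groth.Agent.RegImm10.BlowCech

variable {A : Type u} [CommRing A] {r : ℕ} (a : Fin r → A)

/-- The functions of the intersection of charts, inside the functions off the exceptional divisor. -/
def R0 {m : ℕ} (t : Fin m → Fin r) : Subring (L a t) where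
  carrier := N a 0 t
  mul_mem' := by
    rintro _ _ ⟨p, rfl⟩ ⟨q, rfl⟩
    refine ⟨⟨p.1 * q.1, mul_supported (s := {e | Allowed t e ∧ deg e = 0}) (t := {e | Allowed t e ∧ deg e = 0})
      (v := {e | Allowed t e ∧ deg e = 0})
      (fun x hx y hy => ⟨hx.1.add hy.1, by rw [map_add, hx.2, hy.2, add_zero]⟩) p.2 q.2⟩, ?_⟩
    show ev a t _ = ev a t _ * ev a t _
    rw [← map_mul]
    rfl
  one_mem' := ⟨⟨1, single_mem_supported (s := {e | Allowed t e ∧ deg e = 0}) (g := (0 : Gr r))
    ⟨allowed_zero t, map_zero _⟩ 1⟩, map_one (ev a t)⟩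
  add_mem' := (N a 0 t).add_mem
  zero_mem' := (N a 0 t).zero_mem
  neg_mem' := (N a 0 t).neg_mem

theorem mem_R0 {m : ℕ} (t : Fin m → Fin r) (x : L a t) : x ∈ R0 a t ↔ x ∈ N a 0 t := Iff.rfl

/-- A generator as a unit. -/
def au {m : ℕ} (t : Fin m → Fin r) (k : Fin m) : (L a t)ˣ :=
  (show IsUnit (algebraMap A (L a t) (a (t k))) from
    isUnit_of_dvd_unit (map_dvd _ (Finset.dvd_prod_of_mem (fun k => a (t k)) (Finset.mem_univ k)))
      (IsLocalization.Away.algebraMap_isUnit (ab a t))).unit

@[simp] theorem coe_au {m : ℕ} (t : Fin m → Fin r) (k : Fin m) :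
    (au a t k : L a t) = algebraMap A (L a t) (a (t k)) := rfl

theorem res_au_zpow {m m' : ℕ} {t : Fin m → Fin r} {t' : Fin m' → Fin r}
    (h : ∀ k, ∃ k', t' k' = t k) (k : Fin m) (k' : Fin m') (hk : t' k' = t k) (n : ℤ) :
    res a h ((au a t k ^ n : (L a t)ˣ) : L a t) = ((au a t' k' ^ n : (L a t')ˣ) : L a t') := by
  have e : Units.map (res a h).toRingHom.toMonoidHom (au a t k) = au a t' k' := Units.ext (by
    simp [hk])
  rw [← e, ← map_zpow]
  rfl

/-- A single monomial of the localisation. -/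
def mon {m : ℕ} {t : Fin m → Fin r} {e : Gr r} (he : Allowed t e) (c : A) : Pb A t :=
  ⟨AddMonoidAlgebra.single e c, single_mem_supported (s := {e | Allowed t e}) he c⟩

theorem mon_mul {m : ℕ} {t : Fin m → Fin r} {e e' : Gr r} (he : Allowed t e) (he' : Allowed t e')
    (c c' : A) : mon he c * mon he' c' = mon (he.add he') (c * c') :=
  Subtype.ext (AddMonoidAlgebra.single_mul_single _ _ _ _)

theorem allowed_T {m : ℕ} (t : Fin m → Fin r) (k : Fin m) (n : ℤ) :
    Allowed t (n • Finsupp.single (some (t k)) (1 : ℤ)) :=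
  ⟨by simp, fun j hj => by simp [hj k]⟩

theorem deg_T (j : Fin r) (n : ℤ) : deg (n • Finsupp.single (some j) (1 : ℤ)) = n := by
  rw [map_zsmul]
  simp [deg_apply, Finsupp.single_apply]

theorem ev_single {m : ℕ} (t : Fin m → Fin r) (e : Option (Fin r) →₀ ℕ) (c : A)
    (he : Allowed t (castGr r e)) :
    ev a t (mon he c) = algebraMap A (L a t) (evQ a (MvPolynomial.monomial e c)) := by
  rw [← ev_algebraMap]
  congr 1
  exact Subtype.ext (emb_monomial e c).symm

theorem ev_T {m : ℕ} (t : Fin m → Fin r) (k : Fin m) (n : ℤ) :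
    ev a t (mon (allowed_T t k n) 1) = ((au a t k ^ n : (L a t)ˣ) : L a t) := by
  have hmul : ∀ p q : ℤ, ev a t (mon (allowed_T t k (p + q)) 1) =
      ev a t (mon (allowed_T t k p) 1) * ev a t (mon (allowed_T t k q) 1) := fun p q => by
    rw [← map_mul, mon_mul]
    exact congrArg _ (Subtype.ext (by simp [mon, add_zsmul]))
  have hz : ev a t (mon (allowed_T t k 0) 1) = 1 := by
    rw [← map_one (ev a t)]
    exact congrArg _ (Subtype.ext (by simp [mon, AddMonoidAlgebra.one_def]))
  have h1 : ev a t (mon (allowed_T t k 1) 1) = algebraMap A (L a t) (a (t k)) := by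
    have he : Allowed t (castGr r (Finsupp.single (some (t k)) 1)) := ⟨by simp, fun j _ => by simp⟩
    refine Eq.trans ?_ ((ev_single a t (Finsupp.single (some (t k)) 1) 1 he).trans ?_)
    · exact congrArg _ (Subtype.ext (by simp [mon, castGr]))
    · rw [← MvPolynomial.X]; simp [evQ]
  let φ : Multiplicative ℤ →* (L a t) :=
    { toFun := fun p => ev a t (mon (allowed_T t k p.toAdd) 1)
      map_one' := hz
      map_mul' := fun p q => hmul p.toAdd q.toAdd }
  have key : φ.toHomUnits (Multiplicative.ofAdd n) = au a t k ^ n := by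
    rw [show Multiplicative.ofAdd n = Multiplicative.ofAdd (1 : ℤ) ^ n by
      rw [← ofAdd_zsmul, smul_eq_mul, mul_one], map_zpow]
    congr 1
    exact Units.ext h1
  exact congrArg Units.val key

/-- The twist `n` is the translate of the subring by the power of a generator. -/
theorem mem_N_iff {n : ℤ} {m : ℕ} (t : Fin m → Fin r) (k : Fin m) (x : L a t) :
    x ∈ N a n t ↔ ∃ y ∈ R0 a t, x = y * ((au a t k ^ n : (L a t)ˣ) : L a t) := by
  have hshift : ∀ (p q : ℤ) (x : L a t), x ∈ N a p t →
      x * ((au a t k ^ q : (L a t)ˣ) : L a t) ∈ N a (p + q) t := by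
    rintro p q _ ⟨z, rfl⟩
    refine ⟨⟨z.1 * (mon (allowed_T t k q) 1 : Pb A t).1, mul_supported
      (s := {e | Allowed t e ∧ deg e = p}) (v := {e | Allowed t e ∧ deg e = p + q})
      (fun x hx y (hy : y = q • Finsupp.single (some (t k)) (1 : ℤ)) =>
        ⟨hx.1.add (hy ▸ allowed_T t k q), by rw [map_add, hx.2, hy, deg_T]⟩) z.2
      (single_mem_supported (s := {y | y = q • Finsupp.single (some (t k)) (1 : ℤ)}) rfl 1)⟩, ?_⟩
    show ev a t _ = ev a t _ * _
    rw [← ev_T a t k q, ← map_mul]
    rfl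
  constructor
  · intro hx
    refine ⟨x * ((au a t k ^ (-n) : (L a t)ˣ) : L a t), ?_, ?_⟩
    · rw [mem_R0]
      simpa using hshift n (-n) x hx
    · rw [mul_assoc, ← Units.val_mul, ← zpow_add, neg_add_cancel, zpow_zero, Units.val_one, mul_one]
  · rintro ⟨y, hy, rfl⟩
    simpa using hshift 0 n y hy

theorem algebraMap_mem_R0 {m : ℕ} (t : Fin m → Fin r) (c : A) : algebraMap A (L a t) c ∈ R0 a t := by
  have he : Allowed t (castGr r (0 : Option (Fin r) →₀ ℕ)) := ⟨by simp, fun j _ => by simp⟩
  refine ⟨⟨_, single_mem_supported (s := {e | Allowed t e ∧ deg e = 0})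
    (g := castGr r (0 : Option (Fin r) →₀ ℕ)) ⟨he, by simp⟩ c⟩, ?_⟩
  refine (ev_single a t 0 c he).trans ?_
  simp [evQ]

theorem frac_mem_R0 {m : ℕ} (t : Fin m → Fin r) (j : Fin r) (k : Fin m) :
    algebraMap A (L a t) (a j) * ↑(au a t k)⁻¹ ∈ R0 a t := by
  have hj : algebraMap A (L a t) (a j) ∈ N a 1 t := by
    have he : Allowed t (castGr r (Finsupp.single (some j) 1)) := ⟨by simp, fun j _ => by simp⟩
    refine ⟨⟨_, single_mem_supported (s := {e | Allowed t e ∧ deg e = 1})
      (g := castGr r (Finsupp.single (some j) 1)) ⟨he, by simp [deg_apply, Finsupp.single_apply]⟩ 1⟩, ?_⟩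
    refine (ev_single a t _ 1 he).trans ?_
    rw [← MvPolynomial.X]; simp [evQ]
  obtain ⟨y, hy, hyx⟩ := (mem_N_iff a t k _).1 hj
  rw [hyx, zpow_one, mul_assoc, Units.mul_inv, mul_one]
  exact hy

/-- The subring is generated by the base and the fractions. -/
theorem R0_le {m : ℕ} {t : Fin (m + 1) → Fin r} (S : Subring (L a t))
    (hA : ∀ c, algebraMap A (L a t) c ∈ S)
    (hf : ∀ (j : Fin r) (k : Fin (m + 1)), algebraMap A (L a t) (a j) * ↑(au a t k)⁻¹ ∈ S) :
    R0 a t ≤ S := by
  classical
  rintro _ ⟨p, rfl⟩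
  show ev a t (inclPb 0 t p) ∈ S
  -- reduce to monomials
  have hsum : inclPb 0 t p = ∑ e ∈ p.1.coeff.support.attach,
      (mon (A := A) (show Allowed t e.1 from by_contra fun h =>
        Finsupp.mem_support_iff.1 e.2 (mem_Pn.1 p.2 e.1 fun h' => h h'.1)) (p.1.coeff e.1)) :=
    Subtype.ext (by
      rw [AddSubmonoidClass.coe_finsetSum]
      show p.1 = ∑ e ∈ p.1.coeff.support.attach, AddMonoidAlgebra.single e.1 (p.1.coeff e.1)
      rw [Finset.sum_attach p.1.coeff.support fun e => AddMonoidAlgebra.single e (p.1.coeff e)]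
      exact AddMonoidAlgebra.ext <| Finsupp.ext fun x => by simp [Finsupp.single_apply, eq_comm])
  rw [hsum, map_sum]
  refine Subring.sum_mem _ fun e _ => ?_
  obtain ⟨e, he⟩ := e
  have hd : deg e = 0 := by_contra fun h =>
    Finsupp.mem_support_iff.1 he (mem_Pn.1 p.2 e fun h' => h h'.2)
  have hA' : Allowed t e := by_contra fun h =>
    Finsupp.mem_support_iff.1 he (mem_Pn.1 p.2 e fun h' => h h'.1)
  show ev a t (mon hA' (p.1.coeff e)) ∈ S
  -- clear the negative exponents
  let neg : Finset (Fin (m + 1)) := Finset.univ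
  let s : Gr r := ∑ k ∈ neg, (-e (some (t k))).toNat • (Finsupp.single (some (t k)) (1 : ℤ))
  have hs0 : ∀ j, 0 ≤ s (some j) ∧ (∀ k, t k = j → -e (some j) ≤ s (some j)) := by
    intro j
    have hnn : ∀ k ∈ neg, (0 : ℤ) ≤ ((-e (some (t k))).toNat • Finsupp.single (some (t k)) (1 : ℤ)) (some j) :=
      fun k _ => by simp [Finsupp.single_apply]; split_ifs <;> simp
    refine ⟨?_, fun k hk => ?_⟩
    · simp only [s, Finsupp.finsetSum_apply]
      exact Finset.sum_nonneg hnn
    · simp only [s, Finsupp.finsetSum_apply]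
      refine le_trans ?_ (Finset.single_le_sum hnn (Finset.mem_univ k))
      simp [hk]
  have hsnone : s none = 0 := by simp [s, Finsupp.finsetSum_apply]
  have hpos : ∀ o, 0 ≤ (e + s) o := by
    intro o
    rw [Finsupp.add_apply]
    rcases o with _ | j
    · rw [hsnone, add_zero]; exact hA'.1
    · by_cases hj : ∃ k, t k = j
      · obtain ⟨k, hk⟩ := hj
        have := (hs0 j).2 k hk
        omega
      · push Not at hj
        exact add_nonneg (hA'.2 j hj) (hs0 j).1
  let q : Option (Fin r) →₀ ℕ := Finsupp.mapRange Int.toNat rfl (e + s)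
  have hq : castGr r q = e + s := Finsupp.ext fun o => by
    simp only [q, castGr_apply, Finsupp.mapRange_apply]
    exact Int.toNat_of_nonneg (hpos o)
  -- degree bookkeeping: pair every T-factor with a denominator
  let M : ℕ := q.sum fun o c => o.elim 0 fun _ => c
  have hM : ((au a t 0 ^ (-(M : ℤ)) : (L a t)ˣ) : L a t) *
      algebraMap A (L a t) (evQ a (MvPolynomial.monomial q (p.1.coeff e))) ∈ S := by
    rw [show evQ a (MvPolynomial.monomial q (p.1.coeff e)) =
      p.1.coeff e * q.prod fun o c => (o.elim 1 a) ^ c from MvPolynomial.aeval_monomial _ _ _, map_mul,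
      mul_left_comm]
    refine Subring.mul_mem _ (hA _) ?_
    rw [Finsupp.prod, map_prod, zpow_neg, zpow_natCast, ← inv_pow, Units.val_pow_eq_pow_val]
    have hMs : M = ∑ o ∈ q.support, o.elim 0 fun _ => q o := rfl
    rw [hMs, ← Finset.prod_pow_eq_pow_sum, ← Finset.prod_mul_distrib]
    refine Subring.prod_mem _ fun o _ => ?_
    rcases o with _ | j
    · simp
    · simp only [Option.elim_some, map_pow, ← mul_pow]
      rw [mul_comm]
      exact Subring.pow_mem _ (hf j 0) _
  have hdegq : (M : ℤ) = deg (castGr r q) + (q none : ℤ) := by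
    rw [deg_apply, castGr_apply, sub_add_cancel]
    show ((q.sum fun o c => o.elim 0 fun _ => c : ℕ) : ℤ) = _
    rw [Finsupp.sum_fintype _ _ (by rintro (_ | _) <;> simp), Fintype.sum_option]
    simp
  -- the shift
  let u : (L a t)ˣ := ∏ k ∈ neg, (au a t 0 * (au a t k)⁻¹) ^ (-e (some (t k))).toNat
  have hu : (u : L a t) ∈ S := by
    simp only [u, Units.coe_prod, Units.val_pow_eq_pow_val, Units.val_mul, coe_au]
    exact Subring.prod_mem _ fun k _ => Subring.pow_mem _ (hf (t 0) k) _
  have hs : Allowed t s := ⟨hsnone.ge, fun j _ => (hs0 j).1⟩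
  have hevs : ev a t (mon hs 1) = ∏ k ∈ neg, ((au a t k ^ (-e (some (t k))).toNat : (L a t)ˣ) : L a t) := by
    have hT : ∀ (F : Finset (Fin (m + 1))) (h : Allowed t (∑ k ∈ F, (-e (some (t k))).toNat • (Finsupp.single (some (t k)) (1 : ℤ)))),
        ev a t (mon h 1) = ∏ k ∈ F, ((au a t k ^ (-e (some (t k))).toNat : (L a t)ˣ) : L a t) := by
      intro F
      induction F using Finset.induction_on with
      | empty =>
        intro h
        rw [Finset.prod_empty, ← map_one (ev a t)]
        exact congrArg _ (Subtype.ext (by simp [mon, AddMonoidAlgebra.one_def]))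
      | insert k F hk ih =>
        intro h
        have hF : Allowed t (∑ k ∈ F, (-e (some (t k))).toNat • (Finsupp.single (some (t k)) (1 : ℤ))) :=
          ⟨by simp [Finsupp.finsetSum_apply], fun j _ => by
            simp only [Finsupp.finsetSum_apply]
            exact Finset.sum_nonneg fun k _ => by simp [Finsupp.single_apply]; split_ifs <;> simp⟩
        rw [Finset.prod_insert hk, ← ih hF, ← zpow_natCast, ← ev_T a t k, ← map_mul, mon_mul]
        exact congrArg _ (Subtype.ext (by simp [mon, Finset.sum_insert hk]))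
    exact hT neg hs
  have hqA : Allowed t (castGr r q) := hq ▸ hA'.add hs
  have key : ev a t (mon hA' (p.1.coeff e)) * ev a t (mon hs 1) =
      algebraMap A (L a t) (evQ a (MvPolynomial.monomial q (p.1.coeff e))) := by
    rw [← ev_single a t q _ hqA, ← map_mul, mon_mul]
    exact congrArg _ (Subtype.ext (by simp [mon, hq]))
  have hsum' : (∑ k ∈ neg, ((-e (some (t k))).toNat : ℤ)) = deg s := by
    simp only [s, map_sum, map_nsmul]
    refine Finset.sum_congr rfl fun k _ => ?_
    rw [show deg (Finsupp.single (some (t k)) (1 : ℤ)) = 1 by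
      simp [deg_apply, Finsupp.single_apply], nsmul_eq_mul, mul_one]
  have hqnone : (M : ℤ) = deg s + (q none : ℤ) := by
    rw [hdegq, hq, map_add, hd, zero_add]
  have hfin : ev a t (mon hA' (p.1.coeff e)) =
      (((au a t 0 ^ (-(M : ℤ)) : (L a t)ˣ) : L a t) *
        algebraMap A (L a t) (evQ a (MvPolynomial.monomial q (p.1.coeff e)))) *
      ((u : L a t) * algebraMap A (L a t) (a (t 0) ^ q none)) := by
    rw [← key, hevs, ← Units.coe_prod, map_pow, ← coe_au a t 0, ← Units.val_pow_eq_pow_val]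
    have hu' : u * (∏ k ∈ neg, au a t k ^ (-e (some (t k))).toNat) = au a t 0 ^ deg s := by
      rw [← hsum', ← Finset.prod_mul_distrib]
      simp only [← mul_pow, inv_mul_cancel_right]
      rw [Finset.prod_pow_eq_pow_sum, ← zpow_natCast, Nat.cast_sum]
    have h1 : au a t 0 ^ (-(M : ℤ)) * (∏ k ∈ neg, au a t k ^ (-e (some (t k))).toNat) *
        (u * au a t 0 ^ q none) = 1 := by
      rw [mul_assoc, ← mul_assoc _ u, mul_comm _ u, hu', ← zpow_natCast (au a t 0) (q none),
        ← zpow_add, ← zpow_add, hqnone, neg_add_cancel, zpow_zero]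
    have h2 := congrArg Units.val h1
    rw [Units.val_mul, Units.val_mul, Units.val_mul, Units.val_one] at h2
    linear_combination (-(ev a t (mon hA' (p.1.coeff e)))) * h2
  rw [hfin]
  exact Subring.mul_mem _ hM (Subring.mul_mem _ hu (hA _))

end Groth.Agent.RegImm10.BlowCech
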