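import Groth.Agent.RegImm10.BlowCech.Charts
import Groth.Agent.RegImm10.BlowCech.Twists
import Groth.Agent.CechComp71.Scheme
import Groth.Agent.Coh69.OpenSub
import Groth.Agent.Var76.LineBundle

/-!
Sections of twists on the intersections of charts of a blow-up, and their cohomology.
-/

set_option autoImplicit false
set_option linter.style.haveILetI false
set_option backward.isDefEq.respectTransparency.types false

noncomputable section

universe u

open CategoryTheory CategoryTheory.Limits AlgebraicGeometry Opposite TopologicalSpace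
open scoped nonZeroDivisors

namespace Groth.Agent.RegImm10.BlowCech

variable {X X' : Scheme.{u}}

/-- An affine open of the base with a Koszul regular family of generators of the centre, and the
charts of the blow-up over it. -/
structure Cover (b : X' ⟶ X) (I : X.IdealSheafData) where
  hb : BlowUp.IsBlowUp b I
  U : X.Opens
  hU : IsAffineOpen U
  r : ℕ
  a : Fin r → Γ(X, U)
  span_eq : Ideal.span (Set.range a) = I.ideal ⟨U, hU⟩
  kr : Koszul19.KR (List.ofFn a)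
  C : ∀ i, Chart b U (I.ideal ⟨U, hU⟩) (a i)

namespace Cover

variable {b : X' ⟶ X} {I : X.IdealSheafData} (S : Cover b I)

theorem mem_ideal (i : Fin S.r) : S.a i ∈ I.ideal ⟨S.U, S.hU⟩ :=
  S.span_eq ▸ Ideal.subset_span ⟨i, rfl⟩

/-- Intersection of charts. -/
abbrev V {m : ℕ} (t : Fin (m + 1) → Fin S.r) : X'.Opens := ⨅ k, (S.C (t k)).W

theorem mem_V {m : ℕ} {t : Fin (m + 1) → Fin S.r} {x : X'} :
    x ∈ S.V t ↔ ∀ k, x ∈ (S.C (t k)).W := by
  refine ⟨fun h k => (iInf_le _ k : S.V t ≤ _) h, fun h => ?_⟩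
  let O : X'.Opens := ⟨⋂ k, ((S.C (t k)).W : Set X'),
    isOpen_iInter_of_finite fun k => (S.C (t k)).W.2⟩
  have hO : O ≤ S.V t := le_iInf fun k y hy => Set.mem_iInter.1 hy k
  exact hO (Set.mem_iInter.2 h)

theorem V_le {m : ℕ} (t : Fin (m + 1) → Fin S.r) (k : Fin (m + 1)) : S.V t ≤ (S.C (t k)).W :=
  iInf_le _ k

theorem V_le_base {m : ℕ} (t : Fin (m + 1) → Fin S.r) : S.V t ≤ b ⁻¹ᵁ S.U :=
  (S.V_le t 0).trans (S.C (t 0)).le

theorem V_mono {m m' : ℕ} {t : Fin (m + 1) → Fin S.r} {t' : Fin (m' + 1) → Fin S.r}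
    (h : ∀ k, ∃ k', t' k' = t k) : S.V t' ≤ S.V t := fun x hx =>
  S.mem_V.2 fun k => by
    obtain ⟨k', hk'⟩ := h k
    exact hk' ▸ S.mem_V.1 hx k'

/-- The part off the exceptional divisor. -/
abbrev Z {m : ℕ} (t : Fin (m + 1) → Fin S.r) : X'.Opens := b ⁻¹ᵁ X.basicOpen (ab S.a t)

theorem Z_le_base {m : ℕ} (t : Fin (m + 1) → Fin S.r) : S.Z t ≤ b ⁻¹ᵁ S.U :=
  b.preimage_mono (X.basicOpen_le _)

theorem Z_eq {m : ℕ} (t : Fin (m + 1) → Fin S.r) :
    S.Z t = X'.basicOpen (b.app S.U (ab S.a t)) := Scheme.preimage_basicOpen b _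

theorem isUnit_germ_of_mem_Z {m : ℕ} {t : Fin (m + 1) → Fin S.r} {x : X'} (hx : x ∈ S.Z t)
    (k : Fin (m + 1)) : IsUnit (germU b (S.Z_le_base t hx) (S.a (t k))) := by
  have h : IsUnit (germU b (S.Z_le_base t hx) (ab S.a t)) :=
    (X'.mem_basicOpen _ x (S.Z_le_base t hx)).1 (S.Z_eq t ▸ hx)
  exact isUnit_of_dvd_unit (map_dvd _ (Finset.dvd_prod_of_mem (fun k => S.a (t k)) (Finset.mem_univ k))) h

theorem Z_le_V {m : ℕ} (t : Fin (m + 1) → Fin S.r) : S.Z t ≤ S.V t := fun x hx =>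
  S.mem_V.2 fun k => ((S.C (t k)).mem_iff x).2
    ⟨S.Z_le_base t hx, fun _ _ => (S.isUnit_germ_of_mem_Z hx k).dvd⟩

theorem Z_mono {m m' : ℕ} {t : Fin (m + 1) → Fin S.r} {t' : Fin (m' + 1) → Fin S.r}
    (h : ∀ k, ∃ k', t' k' = t k) : S.Z t' ≤ S.Z t := fun x hx => by
  rw [S.Z_eq]
  refine (X'.mem_basicOpen _ x (S.Z_le_base t' hx)).2 ?_
  show IsUnit (germU b (S.Z_le_base t' hx) (ab S.a t))
  rw [ab, map_prod, IsUnit.prod_univ_iff]
  intro k
  obtain ⟨k', hk'⟩ := h k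
  exact hk' ▸ S.isUnit_germ_of_mem_Z hx k'

theorem basicOpen_le_compl {m : ℕ} (t : Fin (m + 1) → Fin S.r) :
    X.basicOpen (ab S.a t) ≤ I.support.compl := fun x hx => by
  intro hs
  have hxU : x ∈ S.U := X.basicOpen_le _ hx
  have h2 := (Set.ext_iff.1 (I.coe_support_inter ⟨S.U, S.hU⟩) x).1 ⟨hs, hxU⟩
  refine ((Scheme.mem_zeroLocus_iff X _ x).1 h2.1 (ab S.a t) ?_) hx
  exact Ideal.mem_of_dvd _ (Finset.dvd_prod_of_mem (fun k => S.a (t k)) (Finset.mem_univ 0))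
    (S.mem_ideal (t 0))

theorem isIso_app {m : ℕ} (t : Fin (m + 1) → Fin S.r) : IsIso (b.app (X.basicOpen (ab S.a t))) := by
  haveI := Div89.isIso_off_center S.hb
  let W : X.Opens := I.support.compl
  have hle : X.basicOpen (ab S.a t) ≤ W := S.basicOpen_le_compl t
  have h1 := morphismRestrict_app b W (W.ι ⁻¹ᵁ X.basicOpen (ab S.a t))
  haveI : IsIso ((b ∣_ W).app (W.ι ⁻¹ᵁ X.basicOpen (ab S.a t))) := inferInstance
  rw [h1] at this
  haveI := this
  have h2 : IsIso (b.app (W.ι ''ᵁ W.ι ⁻¹ᵁ X.basicOpen (ab S.a t))) :=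
    @IsIso.of_isIso_comp_right _ _ _ _ _ _ _ (by rw [eqToHom_op]; exact Functor.map_isIso _ _) this
  have e : W.ι ''ᵁ W.ι ⁻¹ᵁ X.basicOpen (ab S.a t) = X.basicOpen (ab S.a t) := by
    rw [Scheme.Hom.image_preimage_eq_opensRange_inf, Scheme.Opens.opensRange_ι, inf_eq_right.2 hle]
  rwa [e] at h2

/-- The functions off the exceptional divisor. -/
def E {m : ℕ} (t : Fin (m + 1) → Fin S.r) : L S.a t ≃+* Γ(X', S.Z t) :=
  haveI := S.hU.isLocalization_basicOpen (ab S.a t)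
  haveI := S.isIso_app t
  (IsLocalization.algEquiv (Submonoid.powers (ab S.a t)) (L S.a t)
    Γ(X, X.basicOpen (ab S.a t))).toRingEquiv.trans
      (asIso (b.app (X.basicOpen (ab S.a t)))).commRingCatIsoToRingEquiv

theorem E_algebraMap {m : ℕ} (t : Fin (m + 1) → Fin S.r) (y : Γ(X, S.U)) :
    S.E t (algebraMap _ _ y) = pb b (S.Z_le_base t) y := by
  haveI := S.hU.isLocalization_basicOpen (ab S.a t)
  show b.app (X.basicOpen (ab S.a t)) ((IsLocalization.algEquiv (Submonoid.powers (ab S.a t)) (L S.a t)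
    Γ(X, X.basicOpen (ab S.a t))) (algebraMap _ _ y)) = _
  rw [AlgEquiv.commutes]
  show b.app _ (X.presheaf.map (homOfLE (X.basicOpen_le _)).op y) = _
  exact congr($(b.naturality (homOfLE (X.basicOpen_le (ab S.a t))).op).hom y)

/-- The embedding of functions of an intersection of charts. -/
def φ {m : ℕ} (t : Fin (m + 1) → Fin S.r) : Γ(X', S.V t) →+* L S.a t :=
  (S.E t).symm.toRingHom.comp (X'.presheaf.map (homOfLE (S.Z_le_V t)).op).hom

theorem E_φ {m : ℕ} (t : Fin (m + 1) → Fin S.r) (y : Γ(X', S.V t)) :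
    S.E t (S.φ t y) = X'.presheaf.map (homOfLE (S.Z_le_V t)).op y := (S.E t).apply_symm_apply _

theorem φ_pb {m : ℕ} (t : Fin (m + 1) → Fin S.r) (y : Γ(X, S.U)) :
    S.φ t (pb b (S.V_le_base t) y) = algebraMap _ _ y := (S.E t).injective (by
  rw [S.E_φ, S.E_algebraMap, pb_res])

theorem E_res {m m' : ℕ} {t : Fin (m + 1) → Fin S.r} {t' : Fin (m' + 1) → Fin S.r}
    (h : ∀ k, ∃ k', t' k' = t k) (x : L S.a t) :
    S.E t' (res S.a h x) = X'.presheaf.map (homOfLE (S.Z_mono h)).op (S.E t x) := by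
  have : (S.E t').toRingHom.comp (res S.a h).toRingHom =
      (X'.presheaf.map (homOfLE (S.Z_mono h)).op).hom.comp (S.E t).toRingHom := by
    refine IsLocalization.ringHom_ext (Submonoid.powers (ab S.a t)) (RingHom.ext fun y => ?_)
    show S.E t' (res S.a h (algebraMap _ _ y)) = _
    rw [AlgHom.commutes, S.E_algebraMap]
    show _ = X'.presheaf.map (homOfLE (S.Z_mono h)).op (S.E t (algebraMap _ _ y))
    rw [S.E_algebraMap, pb_res]
  exact RingHom.congr_fun this x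

theorem φ_res {m m' : ℕ} {t : Fin (m + 1) → Fin S.r} {t' : Fin (m' + 1) → Fin S.r}
    (h : ∀ k, ∃ k', t' k' = t k) (y : Γ(X', S.V t)) :
    S.φ t' (X'.presheaf.map (homOfLE (S.V_mono h)).op y) = res S.a h (S.φ t y) := (S.E t').injective (by
  rw [S.E_res, S.E_φ, S.E_φ, ← CommRingCat.comp_apply, ← CommRingCat.comp_apply, ← Functor.map_comp,
    ← Functor.map_comp]
  rfl)

/-- The ratio `a_j / a_i` on a chart. -/
def cdiv (i j : Fin S.r) : Γ(X', (S.C i).W) :=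
  ((S.C i).exists_div (S.mem_ideal j)).choose

theorem cdiv_spec (i j : Fin S.r) :
    pb b (S.C i).le (S.a j) = S.cdiv i j * pb b (S.C i).le (S.a i) :=
  ((S.C i).exists_div (S.mem_ideal j)).choose_spec

theorem V_eq_basicOpen {m : ℕ} (t : Fin (m + 1) → Fin S.r) :
    S.V t = X'.basicOpen (∏ k, S.cdiv (t 0) (t k)) := by
  refine le_antisymm (fun x hx => ?_) (fun x hx => ?_)
  · have h0 := S.V_le t 0 hx
    refine (X'.mem_basicOpen _ x h0).2 ?_
    rw [map_prod, IsUnit.prod_univ_iff]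
    intro k
    obtain ⟨hxU, hdiv⟩ := ((S.C (t k)).mem_iff x).1 (S.V_le t k hx)
    obtain ⟨d, hd⟩ := hdiv _ (S.mem_ideal (t 0))
    rw [← germ_pb b (S.C (t 0)).le h0, ← germ_pb b (S.C (t 0)).le h0, S.cdiv_spec (t 0) (t k),
      map_mul] at hd
    refine IsUnit.of_mul_eq_one d ((mul_cancel_right_mem_nonZeroDivisors
      (Div89.germ_mem_nonZeroDivisors ⟨_, (S.C (t 0)).affine⟩ (S.C (t 0)).nzd x h0)).1 ?_)
    rw [one_mul]
    exact Eq.trans (by ring) hd.symm
  · have h0 : x ∈ (S.C (t 0)).W := X'.basicOpen_le _ hx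
    have hu := (X'.mem_basicOpen _ x h0).1 hx
    rw [map_prod, IsUnit.prod_univ_iff] at hu
    refine S.mem_V.2 fun k => ((S.C (t k)).mem_iff x).2 ⟨(S.C (t 0)).le h0, fun y hy => ?_⟩
    obtain ⟨_, hdiv⟩ := ((S.C (t 0)).mem_iff x).1 h0
    refine dvd_trans ?_ (hdiv y hy)
    rw [← germ_pb b (S.C (t 0)).le h0, ← germ_pb b (S.C (t 0)).le h0, S.cdiv_spec (t 0) (t k), map_mul,
      mul_comm]
    exact (associated_mul_unit_left _ _ (hu k)).dvd

theorem isAffineOpen_V {m : ℕ} (t : Fin (m + 1) → Fin S.r) : IsAffineOpen (S.V t) := by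
  rw [S.V_eq_basicOpen]
  exact (S.C (t 0)).affine.basicOpen _

theorem isUnit_cdiv {m : ℕ} (t : Fin (m + 1) → Fin S.r) (k : Fin (m + 1)) :
    IsUnit (X'.presheaf.map (homOfLE (S.V_le t 0)).op (S.cdiv (t 0) (t k))) := by
  let r₀ := X'.presheaf.map (homOfLE (S.V_le t 0)).op
  refine isUnit_of_dvd_unit (map_dvd r₀.hom (Finset.dvd_prod_of_mem (fun k => S.cdiv (t 0) (t k))
    (Finset.mem_univ k))) ?_
  have h := (RingedSpace.isUnit_res_basicOpen X'.toRingedSpace (∏ k, S.cdiv (t 0) (t k))).map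
    (X'.presheaf.map (homOfLE (S.V_eq_basicOpen t).le).op).hom
  erw [← CommRingCat.comp_apply, ← Functor.map_comp] at h
  exact h

theorem res_localization {m : ℕ} (t : Fin (m + 1) → Fin S.r) :
    letI : Algebra Γ(X', (S.C (t 0)).W) Γ(X', S.V t) :=
      (X'.presheaf.map (homOfLE (S.V_le t 0)).op).hom.toAlgebra
    IsLocalization.Away (∏ k, S.cdiv (t 0) (t k)) Γ(X', S.V t) := by
  have hgen : ∀ (O : X'.Opens) (h : O ≤ (S.C (t 0)).W),
      O = X'.basicOpen (∏ k, S.cdiv (t 0) (t k)) →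
      letI : Algebra Γ(X', (S.C (t 0)).W) Γ(X', O) := (X'.presheaf.map (homOfLE h).op).hom.toAlgebra
      IsLocalization.Away (∏ k, S.cdiv (t 0) (t k)) Γ(X', O) := by
    rintro O h rfl
    exact (S.C (t 0)).affine.isLocalization_basicOpen _
  exact hgen _ _ (S.V_eq_basicOpen t)

theorem nzd_ab {m : ℕ} (t : Fin (m + 1) → Fin S.r) :
    pb b (S.V_le_base t) (ab S.a t) ∈ Γ(X', S.V t)⁰ := by
  letI : Algebra Γ(X', (S.C (t 0)).W) Γ(X', S.V t) :=
    (X'.presheaf.map (homOfLE (S.V_le t 0)).op).hom.toAlgebra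
  haveI := S.res_localization t
  rw [ab, map_prod]
  refine Submonoid.prod_mem _ fun k _ => ?_
  rw [← pb_res b (S.C (t 0)).le (S.V_le t 0) (S.a (t k)), S.cdiv_spec (t 0) (t k), map_mul]
  refine mul_mem (S.isUnit_cdiv t k).mem_nonZeroDivisors ?_
  exact IsLocalization.map_nonZeroDivisors_le (Submonoid.powers (∏ k, S.cdiv (t 0) (t k))) Γ(X', S.V t)
    (Submonoid.mem_map_of_mem _ (S.C (t 0)).nzd)

theorem φ_injective {m : ℕ} (t : Fin (m + 1) → Fin S.r) : Function.Injective (S.φ t) := by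
  refine (injective_iff_map_eq_zero _).2 fun y hy => ?_
  have h0 : X'.presheaf.map (homOfLE (S.Z_le_V t)).op y = 0 := by rw [← S.E_φ, hy, map_zero]
  let g := pb b (S.V_le_base t) (ab S.a t)
  have hZ : X'.basicOpen g ≤ S.Z t := by
    rw [S.Z_eq t, show g = X'.presheaf.map (homOfLE (S.V_le_base t)).op (b.app S.U (ab S.a t)) from rfl,
      Scheme.basicOpen_res]
    exact inf_le_right
  haveI := (S.isAffineOpen_V t).isLocalization_basicOpen g
  have h1 : algebraMap Γ(X', S.V t) Γ(X', X'.basicOpen g) y = 0 := by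
    show X'.presheaf.map (homOfLE (X'.basicOpen_le g)).op y = 0
    have h2 := congrArg (X'.presheaf.map (homOfLE hZ).op) h0
    rw [map_zero, ← ConcreteCategory.comp_apply, ← Functor.map_comp] at h2
    exact h2
  obtain ⟨⟨_, K, rfl⟩, hK⟩ := (IsLocalization.map_eq_zero_iff (Submonoid.powers g) _ _).1 h1
  exact (mul_left_mem_nonZeroDivisors_eq_zero_iff (pow_mem (S.nzd_ab t) K)).1 hK

theorem φ_cdiv {m : ℕ} (t : Fin (m + 1) → Fin S.r) (k : Fin (m + 1)) (j : Fin S.r) :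
    S.φ t (X'.presheaf.map (homOfLE (S.V_le t k)).op (S.cdiv (t k) j)) =
      algebraMap _ _ (S.a j) * ↑(au S.a t k)⁻¹ := by
  rw [Units.eq_mul_inv_iff_mul_eq, coe_au, ← S.φ_pb, ← S.φ_pb, ← map_mul,
    ← pb_res b (S.C (t k)).le (S.V_le t k) (S.a (t k)), ← map_mul, ← S.cdiv_spec, pb_res]

theorem φ_range {m : ℕ} (t : Fin (m + 1) → Fin S.r) : (S.φ t).range = R0 S.a t := by
  refine le_antisymm ?_ (R0_le S.a _ (fun c => ⟨_, S.φ_pb t c⟩) fun j k => ⟨_, S.φ_cdiv t k j⟩)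
  rintro _ ⟨y, rfl⟩
  letI : Algebra Γ(X', (S.C (t 0)).W) Γ(X', S.V t) :=
    (X'.presheaf.map (homOfLE (S.V_le t 0)).op).hom.toAlgebra
  haveI := S.res_localization t
  let ρ : Γ(X', (S.C (t 0)).W) →+* L S.a t :=
    (S.φ t).comp (X'.presheaf.map (homOfLE (S.V_le t 0)).op).hom
  have hρpb : ∀ c, ρ (pb b (S.C (t 0)).le c) = algebraMap _ _ c := fun c => by
    rw [← S.φ_pb t c, ← pb_res b (S.C (t 0)).le (S.V_le t 0) c]
    rfl
  have hρ : ∀ z, ρ z ∈ R0 S.a t := by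
    intro z
    obtain ⟨⟨w, hw⟩, rfl⟩ := (S.C (t 0)).ε.surjective z
    induction hw using Algebra.adjoin_induction with
    | algebraMap c =>
      rw [show (⟨algebraMap _ _ c, Subalgebra.algebraMap_mem _ c⟩ : BlowUp.affineAlgebra _ _ _) =
        algebraMap _ _ c from rfl, (S.C (t 0)).compat, hρpb]
      exact algebraMap_mem_R0 _ _ _
    | add w w' hw hw' h h' =>
      rw [show (⟨w + w', add_mem hw hw'⟩ : BlowUp.affineAlgebra _ _ _) = ⟨w, hw⟩ + ⟨w', hw'⟩ from rfl,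
        map_add, map_add]
      exact add_mem h h'
    | mul w w' hw hw' h h' =>
      rw [show (⟨w * w', mul_mem hw hw'⟩ : BlowUp.affineAlgebra _ _ _) = ⟨w, hw⟩ * ⟨w', hw'⟩ from rfl,
        map_mul, map_mul]
      exact mul_mem h h'
    | mem w hw =>
      obtain ⟨x, hx, rfl⟩ := hw
      set q : BlowUp.affineAlgebra Γ(X, S.U) (I.ideal ⟨S.U, S.hU⟩) (S.a (t 0)) :=
        ⟨IsLocalization.mk' (Localization.Away (S.a (t 0))) x ⟨S.a (t 0), Submonoid.mem_powers _⟩,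
          Algebra.subset_adjoin ⟨x, hx, rfl⟩⟩
      have h1 : q * algebraMap _ _ (S.a (t 0)) = algebraMap _ _ x :=
        Subtype.ext (IsLocalization.mk'_spec (Localization.Away (S.a (t 0))) x
          ⟨S.a (t 0), Submonoid.mem_powers _⟩)
      have h2 : ρ ((S.C (t 0)).ε q) = algebraMap _ _ x * ↑(au S.a t 0)⁻¹ := by
        rw [Units.eq_mul_inv_iff_mul_eq, coe_au, ← hρpb, ← hρpb, ← (S.C (t 0)).compat,
          ← (S.C (t 0)).compat, ← map_mul, ← map_mul, h1]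
      rw [h2]
      rw [← S.span_eq, Ideal.mem_span_range_iff_exists_fun] at hx
      obtain ⟨c, rfl⟩ := hx
      rw [map_sum, Finset.sum_mul]
      refine Subring.sum_mem _ fun j _ => ?_
      rw [map_mul, mul_assoc]
      exact mul_mem (algebraMap_mem_R0 _ _ _) (frac_mem_R0 _ _ _ _)
  obtain ⟨⟨z, ⟨_, K, rfl⟩⟩, hK⟩ :=
    IsLocalization.surj (Submonoid.powers (∏ k, S.cdiv (t 0) (t k))) y
  have h1 : S.φ t y * ρ (∏ k, S.cdiv (t 0) (t k)) ^ K = ρ z := by
    rw [← map_pow]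
    exact ((map_mul _ _ _).symm.trans (congrArg (S.φ t) hK))
  have hprod : ρ (∏ k, S.cdiv (t 0) (t k)) * (∏ k, algebraMap Γ(X, S.U) (L S.a t) (S.a (t 0)) * ↑(au S.a t k)⁻¹) = 1 := by
    rw [map_prod, ← Finset.prod_mul_distrib]
    refine Finset.prod_eq_one fun k _ => ?_
    show S.φ t (X'.presheaf.map (homOfLE (S.V_le t 0)).op (S.cdiv (t 0) (t k))) * _ = 1
    rw [S.φ_cdiv t 0 (t k), ← coe_au S.a t k, ← coe_au S.a t 0, mul_assoc, Units.inv_mul_cancel_left,
      Units.mul_inv]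
  have h3 := congrArg (· * (∏ k, algebraMap Γ(X, S.U) (L S.a t) (S.a (t 0)) * ↑(au S.a t k)⁻¹) ^ K) h1
  simp only [mul_assoc, ← mul_pow, hprod, one_pow, mul_one] at h3
  rw [h3]
  exact mul_mem (hρ z) (Subring.pow_mem _ (Subring.prod_mem _ fun k _ => frac_mem_R0 _ _ _ _) _)

end Cover

end Groth.Agent.RegImm10.BlowCech
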