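import Groth.Agent.RegImm10.BlowCech.TwistPull
import Groth.Agent.Var76.HHPush
import Groth.Agent.Coh69.Push

/-!
Direct images of the products of pulled back invertible modules with powers of the exceptional
ideal, and their cohomology.
-/

set_option autoImplicit false
set_option linter.style.haveILetI false
set_option backward.isDefEq.respectTransparency.types false

noncomputable section

universe u

open CategoryTheory CategoryTheory.Limits AlgebraicGeometry Opposite TopologicalSpace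

namespace Groth.Agent.RegImm10.BlowCech

open Var76 (LineBundle.IsFrame LineBundle.res LineBundle.res_res LineBundle.res_smul)

variable {X X' : Scheme.{u}} {b : X' ⟶ X} {I : X.IdealSheafData}

theorem isQuasicoherent_pullMul (hb : BlowUp.IsBlowUp b I) {M : X.Modules} (hM : PicF.IsInvertible M)
    (n : ℕ) : (pullMul b I M n).IsQuasicoherent := by
  refine Mero90.isQCoh_of_isInvertible (Mero90.isInvertible_of_frames fun x => ?_)
  obtain ⟨U, hxU, e, he⟩ := Mero90.exists_frame' hM (b x)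
  have hi : PicF.IsInvertible (ClSub.idealMod ((BlowUp.exceptional b I) ^ n)) := by
    refine (Curves2.isInvertible_idealMod_iff _).2 fun z => ?_
    obtain ⟨V, hzV, f, hf, hI⟩ := hb.1 z
    exact ⟨V, hzV, f ^ n, pow_mem hf n, by
      rw [Scheme.IdealSheafData.ideal_pow, Pi.pow_apply, hI, Ideal.span_singleton_pow]⟩
  obtain ⟨P, hxP, j, hj⟩ := Mero90.exists_frame' hi x
  exact ⟨b ⁻¹ᵁ U ⊓ P, ⟨hxU, hxP⟩, _,
    Amp73.isFrame_tm ((Props58.PullTensor.isFrame_pullS b he).res inf_le_left) (hj.res inf_le_right)⟩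

/-- Small covers over which an invertible module has a frame. -/
def FrameB (b : X' ⟶ X) (I : X.IdealSheafData) (M : X.Modules) (N : ℕ) : Set X.Opens :=
  {V | ∃ S : Cover b I, S.U = V ∧ N ≤ S.r ∧ ∃ e : Γ(M, S.U), LineBundle.IsFrame M S.U e}

theorem frameB_exists (hb : BlowUp.IsBlowUp b I) {N : ℕ} (hI : HasGens I N) {M : X.Modules}
    (hM : PicF.IsInvertible M) (W : X.Opens) (z : X) (hz : z ∈ W) :
    ∃ V ∈ FrameB b I M N, z ∈ V ∧ V ≤ W := by
  obtain ⟨U, hzU, e, he⟩ := Mero90.exists_frame' hM z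
  obtain ⟨S, hzS, hSO, hS⟩ := exists_cover hb hI z (W ⊓ U) ⟨hz, hzU⟩
  exact ⟨S.U, ⟨S, rfl, hS, _, he.res (hSO.trans inf_le_right)⟩, hzS, hSO.trans inf_le_left⟩

theorem subsingleton_frameB (hb : BlowUp.IsBlowUp b I) {N : ℕ} (hN : 1 ≤ N) {M : X.Modules}
    (hM : PicF.IsInvertible M) (n : ℕ) (V : X.Opens) (hV : V ∈ FrameB b I M N) (q : ℕ) :
    Subsingleton (Coh69.HE (Coh.toAb (pullMul b I M n)) (q + 1) (b ⁻¹ᵁ V)) := by
  obtain ⟨S, rfl, hS, e, he⟩ := hV
  haveI := isQuasicoherent_pullMul hb hM n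
  exact (S.twistPull he n).subsingleton_HE (by omega) q

/-- The direct image of `b^*M ⊗ J^n` is `I^n M`. -/
theorem exists_iso_push (hb : BlowUp.IsBlowUp b I) {N : ℕ} (hN : 1 ≤ N) (hI : HasGens I N)
    {M : X.Modules} (hM : PicF.IsInvertible M) (n : ℕ) :
    Nonempty ((Scheme.Modules.pushforward b).obj (pullMul b I M n) ≅ (Dual3.idealMul (I ^ n)).obj M) := by
  haveI := Mero90.isQCoh_of_isInvertible hM
  let η := (Scheme.Modules.pullbackPushforwardAdjunction b).unit.app M
  have hbij := fun U => app_bijective hb hN hI U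
  haveI : IsIso η := PP93.isIso_unit b hbij M hM
  let π : (Scheme.Modules.pushforward b).obj (pullMul b I M n) ⟶ M :=
    (Scheme.Modules.pushforward b).map (pullMulι b I M n) ≫ inv η
  have hη : ∀ (V : X.Opens) (x : Γ(pullMul b I M n, b ⁻¹ᵁ V)),
      Amp73.pullS b M V (π.app V x) = (pullMulι b I M n).app (b ⁻¹ᵁ V) x := fun V x => by
    have h : π ≫ η = (Scheme.Modules.pushforward b).map (pullMulι b I M n) := by
      simp [π]
    exact congr(Scheme.Modules.Hom.app $h V x)
  have hmem : ∀ (S : Cover b I), N ≤ S.r → ∀ (e : Γ(M, S.U)), LineBundle.IsFrame M S.U e →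
      ∀ (x : Γ(pullMul b I M n, b ⁻¹ᵁ S.U)), ∃ c ∈ (I ^ n).ideal ⟨S.U, S.hU⟩, π.app S.U x = c • e := by
    intro S hS e he x
    obtain ⟨c, hc⟩ := (he S.U le_rfl).2 (π.app S.U x)
    have hc' : c • e = π.app S.U x := by simpa [LineBundle.res] using hc
    refine ⟨c, ?_, hc'.symm⟩
    rw [Scheme.IdealSheafData.ideal_pow, Pi.pow_apply]
    refine S.mem_pow_of_image he n (s := x) (by omega) ?_
    rw [← hη S.U x, ← hc', Amp73.pullS_smul]
  have hw : π ≫ QC70.toClosed (I ^ n) M = 0 := by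
    refine Scheme.Modules.hom_ext _ _ fun W => ConcreteCategory.hom_ext _ _ fun x => ?_
    refine Var76.ZeroScheme.eq_of_locally _ _ _ fun z hz => ?_
    obtain ⟨_, ⟨S, rfl, hS, e, he⟩, hzS, hSW⟩ := frameB_exists hb hI hM W z hz
    refine ⟨S.U, hSW, hzS, ?_⟩
    rw [← Mero90.app_res (π ≫ QC70.toClosed (I ^ n) M) hSW, ← Mero90.app_res (0 : _ ⟶ _) hSW]
    set y : Γ(pullMul b I M n, b ⁻¹ᵁ S.U) := LineBundle.res ((Scheme.Modules.pushforward b).obj (pullMul b I M n)) hSW x
    obtain ⟨c, hc, hy⟩ := hmem S hS e he y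
    show (QC70.toClosed (I ^ n) M).app S.U (π.app S.U y) = 0
    rw [hy]
    exact QC70.toClosed_app_smul_eq_zero (I ^ n) M ⟨S.U, S.hU⟩ hc e
  let ℓ : (Scheme.Modules.pushforward b).obj (pullMul b I M n) ⟶ (Dual3.idealMul (I ^ n)).obj M :=
    kernel.lift _ π hw
  have hℓ : ∀ (V : X.Opens) (x : Γ(pullMul b I M n, b ⁻¹ᵁ V)),
      (Dual3.idealMulι (I ^ n) M).app V (ℓ.app V x) = π.app V x := fun V x =>
    congr(Scheme.Modules.Hom.app $(kernel.lift_ι _ π hw) V x)
  haveI : IsIso ℓ := by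
    refine EGAProj74.isIso_of_basis ℓ (FrameB b I M N) (fun W z hz => frameB_exists hb hI hM W z hz) ?_
    rintro _ ⟨S, rfl, hS, e, he⟩
    refine ⟨fun x x' h => ?_, fun y => ?_⟩
    · refine S.pullMulι_injective_base he n ?_
      rw [← hη, ← hη, ← hℓ, ← hℓ, h]
    · obtain ⟨c, hc⟩ := (he S.U le_rfl).2 ((Dual3.idealMulι (I ^ n) M).app S.U y)
      have hc' : c • e = (Dual3.idealMulι (I ^ n) M).app S.U y := by simpa [LineBundle.res] using hc
      have hcI : c ∈ I.ideal ⟨S.U, S.hU⟩ ^ n := by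
        have h1 := (QC70.mem_idealMul_iff (I ^ n) M ⟨S.U, S.hU⟩ (c • e)).1 ⟨y, hc'.symm⟩
        obtain ⟨d, hd, hde⟩ : ∃ d ∈ (I ^ n).ideal ⟨S.U, S.hU⟩, d • e = c • e := by
          refine Submodule.smul_induction_on (p := fun z => ∃ d ∈ (I ^ n).ideal ⟨S.U, S.hU⟩, d • e = z)
            h1 ?_ ?_
          · intro g hg z _
            obtain ⟨a, rfl⟩ := (he S.U le_rfl).2 z
            exact ⟨g * a, Ideal.mul_mem_right _ _ hg, by simp [mul_smul, LineBundle.res]⟩
          · rintro _ _ ⟨d, hd, rfl⟩ ⟨d', hd', rfl⟩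
            exact ⟨d + d', add_mem hd hd', add_smul _ _ _⟩
        have : d = c := (he S.U le_rfl).1 (by simpa [LineBundle.res] using hde)
        rw [Scheme.IdealSheafData.ideal_pow, Pi.pow_apply, this] at hd
        exact hd
      obtain ⟨s, hs⟩ := S.exists_image he n hcI
      refine ⟨s, QC70.app_injective_of_mono (Dual3.idealMulι (I ^ n) M) S.U ?_⟩
      rw [hℓ, ← hc']
      refine (ConcreteCategory.bijective_of_isIso (η.app S.U)).1 ?_
      exact ((hη S.U s).trans hs).trans (Amp73.pullS_smul b M S.U c e).symm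
  exact ⟨asIso ℓ⟩

section Linear

open Var76 CechComp71 Coh69 QC70 FF71

variable {A : Type u} [CommRing A] {P S₀ : Scheme.{u}} (f : P ⟶ S₀)
  [P.Over (Spec (CommRingCat.of A))] [S₀.Over (Spec (CommRingCat.of A))]

/-- Cohomology of a direct image which is acyclic over affine opens, as modules over the base. -/
theorem nonempty_hhLin_push_of_acyclic [IsProper (S₀ ↘ Spec (CommRingCat.of A))]
    (hf : f ≫ (S₀ ↘ Spec (CommRingCat.of A)) = P ↘ Spec (CommRingCat.of A))
    (M : P.Modules) (hM : ((Coh.push f).obj M).IsQuasicoherent) (B : Set S₀.Opens)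
    (hB : ∀ (W : S₀.Opens) (z : S₀), z ∈ W → ∃ V ∈ B, z ∈ V ∧ V ≤ W)
    (hac : ∀ V ∈ B, ∀ q, Subsingleton (HE (Coh.toAb M) (q + 1) (f ⁻¹ᵁ V))) (p : ℕ) :
    Nonempty (Coh.HH S₀ ((Coh.push f).obj M) p ≃ₗ[A] Coh.HH P M p) := by
  obtain ⟨ι, _, U, hU, hU'⟩ := FF71.exists_cover (A := A) (X := S₀)
  have hV : ⨆ i, preCover f U i = ⊤ := by
    rw [← Scheme.Hom.preimage_iSup, hU]; rfl
  have hacS : AcyclicOn U (Coh.toAb ((Coh.push f).obj M)) := acyclicOn_of_isAffineOpen _ _ hU'
  have hacX : AcyclicOn (preCover f U) (Coh.toAb M) := fun q n i => by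
    rw [cOpen_preCover]
    haveI : Subsingleton (HE ((pushSh f.base).obj (Coh.toAb M)) (q + 1) (cOpen U i)) :=
      CechComp71.subsingleton_E_affine ((Coh.push f).obj M) (hU' n i) q
    have hBb : Opens.IsBasis B := Opens.isBasis_iff_nbhd.2 fun {W} {z} hz => by
      obtain ⟨V, hV, hzV, hVW⟩ := hB W z hz
      exact ⟨V, hV, hzV, hVW⟩
    obtain ⟨e⟩ := Coh69.leray f.base B hBb (Coh.toAb M) hac (q + 1) (cOpen U i)
    exact e.toEquiv.subsingleton
  let θ : MZ U ((Coh.push f).obj M) p →+ Coh.HH P M p :=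
    (toHH (preCover f U) hV M p).comp (pushZ f U M p).toAddMonoidHom
  have hsurj : Function.Surjective θ := (toHH_surjective hV hacX p).comp (pushZ f U M p).surjective
  have hker : θ.ker = (toHH U hU ((Coh.push f).obj M) p).ker := by
    ext z
    rw [AddMonoidHom.mem_ker, AddMonoidHom.mem_ker]
    show toHH (preCover f U) hV M p (pushZ f U M p z) = 0 ↔ _
    cases p with
    | zero =>
      refine ((map_eq_zero_iff _ (toHH_zero_bijective _ hV M).1).trans ?_).trans
        (map_eq_zero_iff _ (toHH_zero_bijective _ hU _).1).symm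
      exact (pushZ f U M 0).map_eq_zero_iff
    | succ q =>
      rw [toHH_eq_zero_iff hV hacX, toHH_eq_zero_iff hU hacS]
      constructor
      · rintro ⟨r, hr⟩
        refine ⟨(pushCoch f U M q).symm r, (pushCoch f U M (q + 1)).injective ?_⟩
        exact (pushCoch_cd f U M q _).trans ((congrArg _ ((pushCoch f U M q).apply_symm_apply r)).trans hr)
      · rintro ⟨r, hr⟩
        exact ⟨pushCoch f U M q r, (pushCoch_cd f U M q r).symm.trans (congrArg _ hr)⟩
  let e₁ := QuotientAddGroup.quotientKerEquivOfSurjective _ (toHH_surjective hU hacS p)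
  let e₂ := QuotientAddGroup.quotientKerEquivOfSurjective _ hsurj
  let e := e₁.symm.trans ((QuotientAddGroup.quotientAddEquivOfEq hker.symm).trans e₂)
  have he : ∀ z, e (toHH U hU _ p z) = θ z := fun z => by
    have : e₁.symm (toHH U hU _ p z) = QuotientAddGroup.mk z := e₁.symm_apply_apply (QuotientAddGroup.mk z)
    show e₂ (QuotientAddGroup.quotientAddEquivOfEq hker.symm (e₁.symm _)) = _
    rw [this]
    rfl
  exact ⟨{ e with
    map_smul' := fun a x => by
      obtain ⟨z, rfl⟩ := toHH_surjective hU hacS p x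
      change e (a • _) = a • e _
      rw [← toHH_smulZ, he, he]
      show toHH _ hV M p (pushZ f U M p (smulZ A U _ p a z)) = a • toHH _ hV M p (pushZ f U M p z)
      rw [← toHH_smulZ]
      exact congrArg _ (Subtype.ext (pushCoch_smul f hf U M p a z.1)) }⟩

end Linear

end Groth.Agent.RegImm10.BlowCech
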