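import Groth.Agent.RegImm10.BlowCech.LocFree
import Groth.Agent.Coh69.Sections

/-!
Modules with a resolution by finite locally free modules which stays exact after pull back.
-/

set_option autoImplicit false
set_option linter.style.haveILetI false
set_option backward.isDefEq.respectTransparency.types false

noncomputable section

universe u

open CategoryTheory CategoryTheory.Limits AlgebraicGeometry Opposite TopologicalSpace
open Groth.Agent.Props58.LocFree

namespace Groth.Agent.RegImm10.BlowCech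

variable {X X' : Scheme.{u}} {b : X' ⟶ X} {I : X.IdealSheafData}

theorem sections_exact {Y : Scheme.{u}} {S : ShortComplex Y.Modules} (hS : S.ShortExact) (U : Y.Opens)
    (h : Subsingleton (Coh69.HE (Coh.toAb S.X₁) 1 U)) :
    Function.Surjective (S.g.app U) ∧ ∀ y, S.g.app U y = 0 → ∃ x, S.f.app U x = y := by
  have hS' : (S.map (QC70.abSheafFunctor Y)).ShortExact := hS.map_of_exact _
  haveI : Subsingleton (Coh69.HE (S.map (QC70.abSheafFunctor Y)).X₁ 1 U) := h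
  exact ⟨fun s => Coh69.surjective_of_subsingleton_H1 hS' U s, fun y hy => Coh69.sect_exact hS' U y hy⟩

theorem app_zero_comp {Y : Scheme.{u}} (S : ShortComplex Y.Modules) (U : Y.Opens) (x : Γ(S.X₁, U)) :
    S.g.app U (S.f.app U x) = 0 :=
  Coh69.sect_f_g (S.map (QC70.abSheafFunctor Y)) U x

theorem exists_cover_basis₂ (hb : BlowUp.IsBlowUp b I) {N : ℕ} (hI : HasGens I N) {E₁ E₀ : X.Modules}
    (h₁ : FlatMod.IsFinLocFree E₁) (h₀ : FlatMod.IsFinLocFree E₀) (x : X) (O : X.Opens) (hx : x ∈ O) :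
    ∃ S : Cover b I, x ∈ S.U ∧ S.U ≤ O ∧ N ≤ S.r ∧
      (∃ (M : ℕ) (g : Fin M → Γ((Scheme.Modules.pullback b).obj E₁, b ⁻¹ᵁ S.U)),
        ∀ (P : X'.Opens) (h : P ≤ b ⁻¹ᵁ S.U), Function.Bijective fun a : Fin M → Γ(X', P) =>
          ∑ k, a k • QC70.res ((Scheme.Modules.pullback b).obj E₁) h (g k)) ∧
      (∃ (M : ℕ) (g : Fin M → Γ((Scheme.Modules.pullback b).obj E₀, b ⁻¹ᵁ S.U)),
        ∀ (P : X'.Opens) (h : P ≤ b ⁻¹ᵁ S.U), Function.Bijective fun a : Fin M → Γ(X', P) =>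
          ∑ k, a k • QC70.res ((Scheme.Modules.pullback b).obj E₀) h (g k)) := by
  obtain ⟨U₁, M₁, s₁, hxU₁, hs₁⟩ := (isFinLocFree_iff).mp h₁ x
  obtain ⟨U₀, M₀, s₀, hxU₀, hs₀⟩ := (isFinLocFree_iff).mp h₀ x
  obtain ⟨S, hxS, hSO, hS⟩ := exists_cover hb hI x (O ⊓ U₁ ⊓ U₀) ⟨⟨hx, hxU₁⟩, hxU₀⟩
  have e₁ : S.U ≤ U₁ := hSO.trans (inf_le_left.trans inf_le_right)
  have e₀ : S.U ≤ U₀ := hSO.trans inf_le_right
  exact ⟨S, hxS, hSO.trans (inf_le_left.trans inf_le_left), hS,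
    ⟨M₁, _, fun P h => ((Desc59.Pic.VectPush.stalkBasis_pullback b hs₁).restrict (b.preimage_mono e₁)).bijective h⟩,
    ⟨M₀, _, fun P h => ((Desc59.Pic.VectPush.stalkBasis_pullback b hs₀).restrict (b.preimage_mono e₀)).bijective h⟩⟩

theorem resolution (hb : BlowUp.IsBlowUp b I) {N : ℕ} (hN : 1 ≤ N) (hI : HasGens I N)
    (T : ShortComplex X.Modules) (hT : T.ShortExact) (h₁ : FlatMod.IsFinLocFree T.X₁)
    (h₀ : FlatMod.IsFinLocFree T.X₂) (hpull : (T.map (Scheme.Modules.pullback b)).ShortExact) :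
    IsIso ((Scheme.Modules.pullbackPushforwardAdjunction b).unit.app T.X₃) ∧
      ∀ p : ℕ, 1 ≤ p → IsZero ((Coh.RpushAb b p).obj (Coh.toAb ((Scheme.Modules.pullback b).obj T.X₃))) := by
  haveI := isQuasicoherent_of_isFinLocFree h₁
  haveI := isQuasicoherent_of_isFinLocFree h₀
  haveI := QCPull72.isQuasicoherent_pullback b T.X₁
  haveI := QCPull72.isQuasicoherent_pullback b T.X₂
  refine ⟨?_, fun q hq => ?_⟩
  · let η := (Scheme.Modules.pullbackPushforwardAdjunction b).unit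
    have hbij := fun U => app_bijective hb hN hI U
    have i₁ : IsIso (η.app T.X₁) := Desc59.Pic.VectPush.isIso_unit b hbij h₁
    have i₀ : IsIso (η.app T.X₂) := Desc59.Pic.VectPush.isIso_unit b hbij h₀
    refine EGAProj74.isIso_of_basis _ {V | ∃ S : Cover b I, S.U = V ∧
      Subsingleton (Coh69.HE (Coh.toAb ((Scheme.Modules.pullback b).obj T.X₁)) 1 (b ⁻¹ᵁ V))}
      (fun W z hz => ?_) ?_
    · obtain ⟨S, hxS, hSO, hS, ⟨M, g, hg⟩, -⟩ := exists_cover_basis₂ hb hI h₁ h₀ z W hz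
      exact ⟨S.U, ⟨S, rfl, S.subsingleton_HE_basis g hg (by omega) 0⟩, hxS, hSO⟩
    · rintro _ ⟨S, rfl, hsub⟩
      obtain ⟨hs, he⟩ := sections_exact hT S.U (CechComp71.subsingleton_E_affine T.X₁ S.hU 0)
      obtain ⟨hs', he'⟩ := sections_exact hpull (b ⁻¹ᵁ S.U) hsub
      let u₁ := (η.app T.X₁).app S.U
      let u₀ := (η.app T.X₂).app S.U
      let u₃ := (η.app T.X₃).app S.U
      have b₁ : Function.Bijective u₁ :=
        (ConcreteCategory.isIso_iff_bijective _).1 (Scheme.Modules.Hom.isIso_iff_isIso_app.1 i₁ S.U)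
      have b₀ : Function.Bijective u₀ :=
        (ConcreteCategory.isIso_iff_bijective _).1 (Scheme.Modules.Hom.isIso_iff_isIso_app.1 i₀ S.U)
      have ng : ∀ y, u₃ (T.g.app S.U y) = ((Scheme.Modules.pullback b).map T.g).app (b ⁻¹ᵁ S.U) (u₀ y) :=
        fun y => congr(Scheme.Modules.Hom.app $(η.naturality T.g) S.U y)
      have nf : ∀ y, u₀ (T.f.app S.U y) = ((Scheme.Modules.pullback b).map T.f).app (b ⁻¹ᵁ S.U) (u₁ y) :=
        fun y => congr(Scheme.Modules.Hom.app $(η.naturality T.f) S.U y)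
      refine ⟨(injective_iff_map_eq_zero u₃.hom).2 fun z hz => ?_, fun z => ?_⟩
      · obtain ⟨y, rfl⟩ := hs z
        obtain ⟨x', hx'⟩ := he' (u₀ y) ((ng y).symm.trans hz)
        obtain ⟨x, rfl⟩ := b₁.2 x'
        rw [← b₀.1 ((nf x).trans hx')]
        exact app_zero_comp T S.U x
      · obtain ⟨y', hy'⟩ := hs' z
        obtain ⟨y, rfl⟩ := b₀.2 y'
        exact ⟨_, (ng y).trans hy'⟩
  · obtain ⟨p, rfl⟩ : ∃ p, q = p + 1 := ⟨q - 1, by omega⟩
    refine Coh69.isZero_RpushAb_of_subsingleton b _ (p + 1) fun O x hx => ?_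
    obtain ⟨S, hxS, hSO, hS, ⟨M, g, hg⟩, ⟨M', g', hg'⟩⟩ := exists_cover_basis₂ hb hI h₁ h₀ x O hx
    exact ⟨S.U, hSO, hxS, subsingleton_HE_quot hpull _ (p + 1)
      (S.subsingleton_HE_basis g' hg' (by omega) p) (S.subsingleton_HE_basis g hg (by omega) (p + 1))⟩

end Groth.Agent.RegImm10.BlowCech
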