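import Groth.Agent.Koszul19.BaseChange
import Groth.Agent.LC17.KCx
import Mathlib.LinearAlgebra.TensorProduct.Pi

/-!
An exact complex of modules modulo a sequence which is Koszul regular on each term is exact.
-/

set_option autoImplicit false
set_option linter.style.haveILetI false

noncomputable section

universe u

open TensorProduct

namespace Groth.Agent.RegImm10.BlowCech

open Koszul19

variable {S : Type u} [CommRing S] (l : List S)

/-- The Koszul complex of `l` with coefficients in `N` is exact in negative degrees. -/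
def KRMod (N : Type u) [AddCommGroup N] [Module S N] : Prop :=
  ∀ p q j : ℤ, p + 1 = q → q + 1 = j → q < 0 →
    Function.Exact ((dd (Koszul.koszul S l) p q).lTensor N) ((dd (Koszul.koszul S l) q j).lTensor N)

variable {l}

theorem KRMod.retract {N N' : Type u} [AddCommGroup N] [Module S N] [AddCommGroup N'] [Module S N']
    (i : N →ₗ[S] N') (π : N' →ₗ[S] N) (hπ : π.comp i = LinearMap.id) (h : KRMod l N') :
    KRMod l N := by
  intro p q j hp hj hq z
  refine ⟨fun hz => ?_, ?_⟩
  · obtain ⟨w, hw⟩ := (h p q j hp hj hq (i.rTensor _ z)).1 (by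
      rw [← LinearMap.comp_apply, LinearMap.lTensor_comp_rTensor, ← LinearMap.rTensor_comp_lTensor,
        LinearMap.comp_apply, hz, map_zero])
    refine ⟨π.rTensor _ w, ?_⟩
    rw [← LinearMap.comp_apply, LinearMap.lTensor_comp_rTensor, ← LinearMap.rTensor_comp_lTensor,
      LinearMap.comp_apply, hw, ← LinearMap.rTensor_comp_apply, hπ, LinearMap.rTensor_id,
      LinearMap.id_apply]
  · rintro ⟨w, rfl⟩
    rw [← LinearMap.lTensor_comp_apply,
      show (dd (Koszul.koszul S l) q j).comp (dd (Koszul.koszul S l) p q) = 0 from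
        LinearMap.ext fun x => dd_dd _ p q j x, LinearMap.lTensor_zero, LinearMap.zero_apply]

theorem KRMod.pi {ι : Type} [Fintype ι] [DecidableEq ι] {N : ι → Type u} [∀ i, AddCommGroup (N i)]
    [∀ i, Module S (N i)] (h : ∀ i, KRMod l (N i)) : KRMod l (∀ i, N i) := by
  intro p q j hp hj hq z
  let e : ∀ k : ℤ, ((∀ i, N i) ⊗[S] ((Koszul.koszul S l).X k : Type u)) ≃ₗ[S]
      ∀ i, N i ⊗[S] ((Koszul.koszul S l).X k : Type u) := fun k => TensorProduct.piLeft ..
  have he : ∀ (a b : ℤ) w i, e b ((dd (Koszul.koszul S l) a b).lTensor _ w) i =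
      (dd (Koszul.koszul S l) a b).lTensor _ (e a w i) := by
    intro a b w i
    induction w using TensorProduct.induction_on with
    | zero => simp
    | tmul x y => simp [e]
    | add x y hx hy => simp only [map_add, Pi.add_apply, hx, hy]
  refine ⟨fun hz => ?_, ?_⟩
  · have hz' : ∀ i, (dd (Koszul.koszul S l) q j).lTensor _ (e q z i) = 0 := fun i => by
      rw [← he, hz, map_zero, Pi.zero_apply]
    choose w hw using fun i => (h i p q j hp hj hq _).1 (hz' i)
    refine ⟨(e p).symm w, (e q).injective (funext fun i => ?_)⟩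
    rw [he, LinearEquiv.apply_symm_apply, hw]
  · rintro ⟨w, rfl⟩
    rw [← LinearMap.lTensor_comp_apply,
      show (dd (Koszul.koszul S l) q j).comp (dd (Koszul.koszul S l) p q) = 0 from
        LinearMap.ext fun x => dd_dd _ p q j x, LinearMap.lTensor_zero, LinearMap.zero_apply]

theorem kRMod_of_kR {B : Type u} [CommRing B] [Algebra S B] (h : KR (l.map (algebraMap S B))) :
    KRMod l B := fun p q j hp hj hq =>
  ((bcKoszul (B := B) l).exact_iff p q j hp hj).1 (h q (by omega))

section Rows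

variable (l) (C : ℕ → Type u) [∀ m, AddCommGroup (C m)] [∀ m, Module S (C m)]
  (d : ∀ m, C m →ₗ[S] C (m + 1))

/-- `d ⊗ 1` -/
abbrev dT (m : ℕ) (q : ℤ) : C m ⊗[S] ((Koszul.koszul S l).X q : Type u) →ₗ[S]
    C (m + 1) ⊗[S] ((Koszul.koszul S l).X q : Type u) := (d m).rTensor _

/-- `1 ⊗ ∂` -/
abbrev pT (m : ℕ) (p q : ℤ) : C m ⊗[S] ((Koszul.koszul S l).X p : Type u) →ₗ[S]
    C m ⊗[S] ((Koszul.koszul S l).X q : Type u) := (dd (Koszul.koszul S l) p q).lTensor _

theorem dT_pT (m : ℕ) (p q : ℤ) (x : C m ⊗[S] ((Koszul.koszul S l).X p : Type u)) :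
    dT l C d m q (pT l C m p q x) = pT l C (m + 1) p q (dT l C d m p x) := by
  rw [dT, pT, pT, dT, ← LinearMap.comp_apply, ← LinearMap.comp_apply,
    LinearMap.rTensor_comp_lTensor, LinearMap.lTensor_comp_rTensor]

variable {l C d}

/-- The staircase. -/
theorem staircase (h0 : Function.Injective (d 0)) (hd : ∀ m, Function.Exact (d m) (d (m + 1)))
    (hK : ∀ m, KRMod l (C m)) :
    ∀ (t : ℕ) (p q : ℤ), p + 1 = q → q ≤ 0 → -(l.length : ℤ) ≤ q → q + (l.length : ℤ) < t →
      (∀ z : C 0 ⊗[S] ((Koszul.koszul S l).X q : Type u),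
        dT l C d 0 q z ∈ LinearMap.range (pT l C 1 p q) → z ∈ LinearMap.range (pT l C 0 p q)) ∧
      (∀ (m : ℕ) (z : C (m + 1) ⊗[S] ((Koszul.koszul S l).X q : Type u)),
        dT l C d (m + 1) q z ∈ LinearMap.range (pT l C (m + 1 + 1) p q) →
          z ∈ LinearMap.range (pT l C (m + 1) p q) ⊔ LinearMap.range (dT l C d m q)) := by
  have hflat : ∀ q, Module.Flat S ((Koszul.koszul S l).X q : Type u) := fun q => by
    haveI := (LC17.finite_free_X l q).2
    infer_instance
  have hinj : ∀ q, Function.Injective (dT l C d 0 q) := fun q =>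
    haveI := hflat q
    Module.Flat.rTensor_preserves_injective_linearMap _ h0
  have hex : ∀ m q, Function.Exact (dT l C d m q) (dT l C d (m + 1) q) := fun m q =>
    haveI := hflat q
    Module.Flat.rTensor_exact _ (hd m)
  have hdd : ∀ m q x, dT l C d (m + 1) q (dT l C d m q x) = 0 := fun m q x => (hex m q).apply_apply_eq_zero x
  intro t
  induction t with
  | zero =>
    intro p q hp hq h1 h2
    omega
  | succ t ih =>
    intro p q hp hq h1 h2
    -- classes coming from the right end
    have hY : ∀ (m : ℕ) (y : C (m + 1) ⊗[S] ((Koszul.koszul S l).X p : Type u)),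
        pT l C (m + 1 + 1) p q (dT l C d (m + 1) p y) = 0 →
        ∃ w, pT l C (m + 1) p q (dT l C d m p w) = pT l C (m + 1) p q y := by
      intro m y hy
      obtain ⟨x, hx⟩ := (hK (m + 1 + 1) (p - 1) p q (by omega) hp (by omega) _).1 hy
      by_cases hlow : p < -(l.length : ℤ)
      · haveI := subsingleton_X l p (Or.inr hlow)
        exact ⟨0, congrArg _ (Subsingleton.elim (α := C (m + 1) ⊗[S] _) _ _)⟩
      obtain ⟨-, h⟩ := ih (p - 1) p (by omega) (by omega) (by omega) (by omega)
      obtain ⟨_, ⟨v, rfl⟩, _, ⟨w, rfl⟩, hvw⟩ := Submodule.mem_sup.1 (h m y ⟨x, hx⟩)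
      refine ⟨w, ?_⟩
      rw [← hvw, map_add, ← LinearMap.lTensor_comp_apply,
        show (dd (Koszul.koszul S l) p q).comp (dd (Koszul.koszul S l) (p - 1) p) = 0 from
          LinearMap.ext fun x => dd_dd _ _ _ _ x, LinearMap.lTensor_zero, LinearMap.zero_apply, zero_add]
    refine ⟨?_, ?_⟩
    · rintro z ⟨y, hy⟩
      obtain ⟨w, hw⟩ := hY 0 y (by rw [← dT_pT, hy, hdd])
      refine ⟨w, hinj q ?_⟩
      rw [dT_pT, hw, hy]
    · rintro m z ⟨y, hy⟩
      obtain ⟨w, hw⟩ := hY (m + 1) y (by rw [← dT_pT, hy, hdd])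
      obtain ⟨x, hx⟩ := (hex m q (z - pT l C (m + 1) p q w)).1 (by
        rw [map_sub, dT_pT, hw, hy, sub_self])
      exact Submodule.mem_sup.2 ⟨_, ⟨w, rfl⟩, _, ⟨x, rfl⟩, by rw [hx, add_sub_cancel]⟩

/-- The degree zero row modulo the sequence. -/
theorem rows_mod (h0 : Function.Injective (d 0)) (hd : ∀ m, Function.Exact (d m) (d (m + 1)))
    (hK : ∀ m, KRMod l (C m)) :
    (∀ z : C 0, d 0 z ∈ Ideal.ofList l • (⊤ : Submodule S (C 1)) →
      z ∈ Ideal.ofList l • (⊤ : Submodule S (C 0))) ∧
    (∀ (m : ℕ) (z : C (m + 1)),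
      d (m + 1) z ∈ Ideal.ofList l • (⊤ : Submodule S (C (m + 1 + 1))) →
        ∃ w, z - d m w ∈ Ideal.ofList l • (⊤ : Submodule S (C (m + 1)))) := by
  obtain ⟨hA, hB⟩ := staircase h0 hd hK (l.length + 1) (-1) 0 (by omega) le_rfl (by omega) (by omega)
  let φ : ∀ m, (C m ⊗[S] ((Koszul.koszul S l).X 0 : Type u)) ≃ₗ[S] C m := fun m =>
    (TensorProduct.congr (LinearEquiv.refl S (C m)) (eps l)).trans (TensorProduct.rid S (C m))
  have hφd : ∀ m x, φ (m + 1) (dT l C d m 0 x) = d m (φ m x) := by
    intro m x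
    induction x using TensorProduct.induction_on with
    | zero => simp
    | tmul a b => simp [φ]
    | add x y hx hy => simp only [map_add, hx, hy]
  have hφr : ∀ m x, x ∈ LinearMap.range (pT l C m (-1) 0) ↔
      φ m x ∈ Ideal.ofList l • (⊤ : Submodule S (C m)) := by
    intro m x
    constructor
    · rintro ⟨w, rfl⟩
      induction w using TensorProduct.induction_on with
      | zero => simp
      | tmul a b =>
        simp only [pT, LinearMap.lTensor_tmul, φ, LinearEquiv.trans_apply, TensorProduct.congr_tmul,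
          LinearEquiv.refl_apply, TensorProduct.rid_tmul]
        exact Submodule.smul_mem_smul ((eps_mem_iff l _).2 ⟨b, rfl⟩) trivial
      | add x y hx hy => simp only [map_add]; exact add_mem hx hy
    · intro hx
      have key : ∀ y ∈ Ideal.ofList l • (⊤ : Submodule S (C m)),
          (φ m).symm y ∈ LinearMap.range (pT l C m (-1) 0) := by
        intro y hy
        refine Submodule.smul_induction_on hy (fun r hr n _ => ?_) (fun x y hx hy => ?_)
        · rw [← range_eps_d] at hr
          obtain ⟨b, hb⟩ := hr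
          refine ⟨n ⊗ₜ b, (φ m).injective ?_⟩
          rw [LinearEquiv.apply_symm_apply, ← hb]
          simp [φ]
        · rw [map_add]; exact add_mem hx hy
      simpa using key _ hx
  refine ⟨fun z hz => ?_, fun m z hz => ?_⟩
  · have h := hA ((φ 0).symm z) ((hφr 1 _).2 (by rwa [hφd, LinearEquiv.apply_symm_apply]))
    rwa [hφr, LinearEquiv.apply_symm_apply] at h
  · obtain ⟨v, hv, _, ⟨w, rfl⟩, hvw⟩ := Submodule.mem_sup.1
      (hB m ((φ (m + 1)).symm z) ((hφr (m + 1 + 1) _).2 (by rwa [hφd, LinearEquiv.apply_symm_apply])))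
    refine ⟨φ m w, ?_⟩
    rw [← hφd, ← (φ (m + 1)).apply_symm_apply z, ← hvw, map_add, add_sub_cancel_right]
    exact (hφr _ _).1 hv

end Rows

end Groth.Agent.RegImm10.BlowCech
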