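import Groth.Agent.RegImm10.BlowCech.Lau
import Groth.Agent.RegImm10.BlowCech.Staircase

/-!
The Čech complex of Laurent monomials of degree `> -r` is exact.
-/

set_option autoImplicit false
set_option linter.style.haveILetI false

noncomputable section

universe u

namespace Groth.Agent.RegImm10.BlowCech

variable {A : Type u} [CommRing A] {r : ℕ}

/-- The alternating sum of faces. -/
def face {M : Type u} [AddCommGroup M] {m : ℕ} (z : (Fin m → Fin r) → M) (b : Fin (m + 1) → Fin r) :
    M :=
  ∑ j : Fin (m + 1), (-1 : ℤ) ^ (j : ℕ) • z (b ∘ j.succAbove)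

theorem face_cons {M : Type u} [AddCommGroup M] {m : ℕ} (z : (Fin (m + 1) → Fin r) → M) (i : Fin r)
    (b : Fin (m + 1) → Fin r) :
    face z (Fin.cons i b) + face (fun b' => z (Fin.cons i b')) b = z b := by
  have h : ∀ j : Fin (m + 1), ((Fin.cons i b : Fin (m + 2) → Fin r) ∘ j.succ.succAbove) =
      Fin.cons i (b ∘ j.succAbove) := fun j => funext fun k => by
    induction k using Fin.cases with
    | zero => simp
    | succ k => simp
  have h0 : ((Fin.cons i b : Fin (m + 2) → Fin r) ∘ (0 : Fin (m + 2)).succAbove) = b :=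
    funext fun k => by simp
  simp only [face]
  rw [Fin.sum_univ_succ, h0]
  simp only [h, Fin.val_zero, pow_zero, one_smul, Fin.val_succ, pow_succ, mul_neg, mul_one, neg_smul,
    Finset.sum_neg_distrib, add_assoc, neg_add_cancel, add_zero]

theorem face_face {M : Type u} [AddCommGroup M] : ∀ {m : ℕ} (z : (Fin m → Fin r) → M)
    (b : Fin (m + 2) → Fin r), face (face z) b = 0 := by
  intro m
  induction m with
  | zero =>
    intro z b
    simp [face, Fin.sum_univ_succ, Subsingleton.elim (α := Fin 0 → Fin r) _ (fun k => b (Fin.elim0 k))]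
  | succ m ih =>
    intro z b
    obtain ⟨i, b, rfl⟩ : ∃ (i : Fin r) (b' : Fin (m + 2) → Fin r), b = Fin.cons i b' :=
      ⟨b 0, Fin.tail b, (Fin.cons_self_tail b).symm⟩
    have h1 := face_cons (face z) i b
    have h2 : (fun b' => face z (Fin.cons i b')) = fun b' => z b' - face (fun b'' => z (Fin.cons i b'')) b' :=
      funext fun b' => eq_sub_of_add_eq (face_cons z i b')
    rw [h2] at h1
    have h3 : face (fun b' => z b' - face (fun b'' => z (Fin.cons i b'')) b') b = face z b := by
      have h4 := ih (fun b'' => z (Fin.cons i b'')) b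
      simp only [face, smul_sub, Finset.sum_sub_distrib] at h4 ⊢
      rw [h4, sub_zero]
    rw [h3] at h1
    exact add_eq_right.1 h1

variable (A r) in
/-- Cochains of degree `n`. -/
abbrev Coch (n : ℤ) (m : ℕ) : Type u := ∀ b : Fin m → Fin r, Pn A n b

theorem faceMem (n : ℤ) {m : ℕ} (z : Coch A r n m) (b : Fin (m + 1) → Fin r) :
    face (fun b' => (z b' : Lau A r)) b ∈ Pn A n b :=
  Submodule.sum_mem _ fun j _ => zsmul_mem (Pn_mono (fun k => ⟨j.succAbove k, rfl⟩) (z _).2) _

variable (A r) in
/-- The Čech differential. -/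
def dC (n : ℤ) (m : ℕ) : Coch A r n m →ₗ[Coef A r] Coch A r n (m + 1) where
  toFun z b := ⟨face (fun b' => (z b' : Lau A r)) b, faceMem n z b⟩
  map_add' z w := funext fun b => Subtype.ext <| by
    simp only [face, Pi.add_apply, Submodule.coe_add, smul_add, Finset.sum_add_distrib]
  map_smul' s z := funext fun b => Subtype.ext <| by
    simp only [face, Pi.smul_apply, SetLike.val_smul, RingHom.id_apply, Finset.smul_sum, smul_comm s]

theorem coe_dC (n : ℤ) {m : ℕ} (z : Coch A r n m) (b : Fin (m + 1) → Fin r) :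
    ((dC A r n m z b : Pn A n b) : Lau A r) = face (fun b' => (z b' : Lau A r)) b := rfl

theorem exists_nonneg {n : ℤ} (hn : -(r : ℤ) < n) {e : Gr r} (h0 : 0 ≤ e none) (hd : deg e = n) :
    ∃ j, 0 ≤ e (some j) := by
  by_contra h
  push Not at h
  have : ∑ j, e (some j) ≤ ∑ _j : Fin r, (-1 : ℤ) := Finset.sum_le_sum fun j _ => by
    have := h j; omega
  rw [deg_apply] at hd
  simp only [Finset.sum_const, Finset.card_univ, Fintype.card_fin, smul_neg, nsmul_eq_mul, mul_one] at this
  omega

open Classical in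
/-- A nonnegative exponent of a monomial. -/
def pick [NeZero r] (e : Gr r) : Fin r :=
  if h : ∃ j, 0 ≤ e (some j) then h.choose else 0

theorem pick_spec [NeZero r] {n : ℤ} (hn : -(r : ℤ) < n) {e : Gr r} (h0 : 0 ≤ e none)
    (hd : deg e = n) : 0 ≤ e (some (pick e)) := by
  rw [pick, dif_pos (exists_nonneg hn h0 hd)]
  exact (exists_nonneg hn h0 hd).choose_spec

/-- The monomials picking `i`. -/
def part [NeZero r] (i : Fin r) (p : Lau A r) : Lau A r :=
  .ofCoeff (p.coeff.filter fun e => pick e = i)

theorem coeff_part [NeZero r] (i : Fin r) (p : Lau A r) (e : Gr r) :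
    (part i p).coeff e = if pick e = i then p.coeff e else 0 := by
  simp [part, Finsupp.filter_apply]

variable (n : ℤ)

/-- The contracting homotopy. -/
def hC [NeZero r] {m : ℕ} (z : (Fin (m + 1) → Fin r) → Lau A r) (b : Fin m → Fin r) : Lau A r :=
  ∑ i, part i (z (Fin.cons i b))

theorem coeff_hC [NeZero r] {m : ℕ} (z : (Fin (m + 1) → Fin r) → Lau A r) (b : Fin m → Fin r)
    (e : Gr r) : (hC z b).coeff e = (z (Fin.cons (pick e) b)).coeff e := by
  simp [hC, coeff_part]

theorem coeff_face {m : ℕ} (z : (Fin m → Fin r) → Lau A r) (b : Fin (m + 1) → Fin r) (e : Gr r) :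
    (face z b).coeff e = face (fun b' => (z b').coeff e) b := by
  rw [face, AddMonoidAlgebra.coeff_sum, Finsupp.finsetSum_apply]
  exact Finset.sum_congr rfl fun j _ => by rw [AddMonoidAlgebra.coeff_smul, Finsupp.smul_apply]

theorem hC_mem [NeZero r] (hn : -(r : ℤ) < n) {m : ℕ} (z : Coch A r n (m + 1)) (b : Fin m → Fin r) :
    hC (fun b' => (z b' : Lau A r)) b ∈ Pn A n b := mem_Pn.2 fun e he => by
  rw [coeff_hC]
  refine mem_Pn.1 (z _).2 e fun h => he ⟨⟨h.1.1, fun j hj => ?_⟩, h.2⟩
  by_cases hp : pick e = j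
  · exact hp ▸ pick_spec hn h.1.1 h.2
  · refine h.1.2 j fun k => ?_
    induction k using Fin.cases with
    | zero => simpa using hp
    | succ k => simpa using hj k

theorem dC_exact (hn : -(r : ℤ) < n) (m : ℕ) :
    Function.Exact (dC A r n m) (dC A r n (m + 1)) := by
  intro z
  refine ⟨fun hz => ?_, ?_⟩
  · rcases Nat.eq_zero_or_pos r with rfl | hr
    · exact ⟨0, funext fun b => (b 0).elim0⟩
    haveI : NeZero r := ⟨by omega⟩
    refine ⟨fun b => ⟨_, hC_mem n hn z b⟩, funext fun b => Subtype.ext
      (AddMonoidAlgebra.ext <| Finsupp.ext fun e => ?_)⟩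
    rw [coe_dC, coeff_face]
    simp only [coeff_hC]
    have h1 := face_cons (fun b' => (z b' : Lau A r).coeff e) (pick e) b
    rw [← coeff_face, show face (fun b' => (z b' : Lau A r)) (Fin.cons (pick e) b) = 0 from
      congrArg Subtype.val (congrFun hz _)] at h1
    simpa using h1
  · rintro ⟨w, rfl⟩
    refine funext fun b => Subtype.ext ?_
    rw [coe_dC]
    exact face_face (fun b' => (w b' : Lau A r)) b

theorem dC_injective (hn : -(r : ℤ) < n) : Function.Injective (dC A r n 0) := by
  refine (injective_iff_map_eq_zero _).2 fun z hz => funext fun b => Subtype.ext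
    (AddMonoidAlgebra.ext <| Finsupp.ext fun e => ?_)
  rcases Nat.eq_zero_or_pos r with rfl | hr
  · refine mem_Pn.1 (z b).2 e fun h => ?_
    obtain ⟨j, -⟩ := exists_nonneg hn h.1.1 h.2
    exact j.elim0
  · have h := congrArg (fun p : Lau A r => p.coeff e) (congrArg Subtype.val (congrFun hz fun _ => ⟨0, hr⟩))
    simp only [coe_dC, coeff_face, face, Fin.sum_univ_one] at h
    rw [show b = ((fun _ : Fin 1 => (⟨0, hr⟩ : Fin r)) ∘ (0 : Fin 1).succAbove) from Subsingleton.elim _ _]
    simpa using h

end Groth.Agent.RegImm10.BlowCech
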