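import Groth.Agent.RegImm10.KoszulBlow
import Groth.Agent.RegImm10.BlowCech.Homotopy

/-!
The Čech complex of the twists of a blow-up in a Koszul regular sequence is exact in the range
`n > -r`.
-/

set_option autoImplicit false
set_option linter.style.haveILetI false
set_option backward.isDefEq.respectTransparency.types false

noncomputable section

universe u

namespace Groth.Agent.RegImm10.BlowCech

open Koszul19

variable {A : Type u} [CommRing A] {r : ℕ} (a : Fin r → A)

/-- The product over a tuple. -/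
def ab {m : ℕ} (b : Fin m → Fin r) : A := ∏ k, a (b k)

/-- The ring of the intersection of charts off the exceptional divisor. -/
abbrev L {m : ℕ} (b : Fin m → Fin r) : Type u := Localization.Away (ab a b)

theorem isUnit_comp {m m' : ℕ} {b : Fin m → Fin r} {b' : Fin m' → Fin r}
    (hb : ∀ k, ∃ k', b' k' = b k) : IsUnit (algebraMap A (L a b') (ab a b)) := by
  show IsUnit (algebraMap A (L a b') (∏ k, a (b k)))
  rw [map_prod, IsUnit.prod_univ_iff]
  intro k
  obtain ⟨k', hk'⟩ := hb k
  rw [← hk']
  refine isUnit_of_dvd_unit (map_dvd _ ?_) (IsLocalization.Away.algebraMap_isUnit (ab a b'))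
  exact Finset.dvd_prod_of_mem _ (Finset.mem_univ k')

/-- Restriction. -/
def res {m m' : ℕ} {b : Fin m → Fin r} {b' : Fin m' → Fin r} (hb : ∀ k, ∃ k', b' k' = b k) :
    L a b →ₐ[A] L a b' :=
  IsLocalization.liftAlgHom (M := Submonoid.powers (ab a b)) (f := Algebra.ofId A (L a b')) fun y => by
    obtain ⟨n, hn⟩ := y.2
    show IsUnit (algebraMap A (L a b') (y : A))
    rw [← hn, map_pow]
    exact (isUnit_comp a hb).pow n

theorem res_res {m m' m'' : ℕ} {b : Fin m → Fin r} {b' : Fin m' → Fin r} {b'' : Fin m'' → Fin r}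
    (h : ∀ k, ∃ k', b' k' = b k) (h' : ∀ k, ∃ k', b'' k' = b' k) (h'' : ∀ k, ∃ k', b'' k' = b k)
    (x : L a b) : res a h' (res a h x) = res a h'' x := by
  have : (res a h').comp (res a h) = res a h'' :=
    IsLocalization.algHom_ext (Submonoid.powers (ab a b)) (by
      ext)
  exact DFunLike.congr_fun this x

/-- Evaluation `u ↦ 1`, `T ↦ a` of polynomials. -/
def evQ : MvPolynomial (Option (Fin r)) A →ₐ[A] A := MvPolynomial.aeval fun o => o.elim 1 a

theorem evQ_tb {m : ℕ} (b : Fin m → Fin r) : evQ a (tb b) = ab a b := by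
  simp [evQ, tb, ab, map_prod]

/-- Evaluation on a chart. -/
def ev {m : ℕ} (b : Fin m → Fin r) : Pb A b →+* L a b :=
  IsLocalization.Away.lift (tb b : MvPolynomial (Option (Fin r)) A)
    (g := (algebraMap A (L a b)).comp (evQ a).toRingHom) (by
      show IsUnit (algebraMap A (L a b) (evQ a (tb b)))
      rw [evQ_tb]
      exact IsLocalization.Away.algebraMap_isUnit _)

theorem ev_algebraMap {m : ℕ} (b : Fin m → Fin r) (q : MvPolynomial (Option (Fin r)) A) :
    ev a b (algebraMap _ _ q) = algebraMap A (L a b) (evQ a q) :=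
  IsLocalization.Away.lift_eq _ _ q

theorem Pb_mono {m m' : ℕ} {b : Fin m → Fin r} {b' : Fin m' → Fin r}
    (hb : ∀ k, ∃ k', b' k' = b k) : Pb A b ≤ Pb A b' := fun p hp =>
  mem_Pb.2 fun e he => mem_Pb.1 hp e fun h => he (h.mono hb)

theorem res_ev {m m' : ℕ} {b : Fin m → Fin r} {b' : Fin m' → Fin r}
    (hb : ∀ k, ∃ k', b' k' = b k) (p : Pb A b) :
    res a hb (ev a b p) = ev a b' (Subalgebra.inclusion (Pb_mono hb) p) := by
  have : (res a hb).toRingHom.comp (ev a b) =
      (ev a b').comp (Subalgebra.inclusion (Pb_mono hb)).toRingHom := by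
    refine IsLocalization.ringHom_ext (Submonoid.powers (tb b : MvPolynomial (Option (Fin r)) A))
      (RingHom.ext fun q => ?_)
    show res a hb (ev a b (algebraMap _ _ q)) = ev a b' (Subalgebra.inclusion (Pb_mono hb) (algebraMap _ _ q))
    rw [show Subalgebra.inclusion (Pb_mono hb) (algebraMap (MvPolynomial (Option (Fin r)) A) (Pb A b) q) =
      algebraMap (MvPolynomial (Option (Fin r)) A) (Pb A b') q from Subtype.ext rfl,
      ev_algebraMap, ev_algebraMap, AlgHom.commutes]
  exact RingHom.congr_fun this p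

/-- Evaluation in degree `n`, additively. -/
def evN (n : ℤ) {m : ℕ} (b : Fin m → Fin r) : Pn A n b →+ L a b :=
  (ev a b).toAddMonoidHom.comp (inclPb (A := A) n b).toAddMonoidHom

/-- The twist `n` on a chart, inside the functions off the exceptional divisor. -/
def N (n : ℤ) {m : ℕ} (b : Fin m → Fin r) : AddSubgroup (L a b) := (evN a n b).range

/-- The relations, in the coefficient ring. -/
def relC : List (Coef A r) := List.ofFn fun j => MvPolynomial.X j - MvPolynomial.C (a j)

/-- The relations `u T_j - a_j`. -/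
def relQ (j : Fin r) : MvPolynomial (Option (Fin r)) A :=
  MvPolynomial.X none * MvPolynomial.X (some j) - MvPolynomial.C (a j)

theorem algebraMap_rel {m : ℕ} (b : Fin m → Fin r) (j : Fin r) :
    algebraMap (Coef A r) (Pb A b) (MvPolynomial.X j - MvPolynomial.C (a j)) =
      algebraMap (MvPolynomial (Option (Fin r)) A) (Pb A b) (relQ a j) := by
  refine Subtype.ext ?_
  show toLau A r (MvPolynomial.X j - MvPolynomial.C (a j)) = emb A r (relQ a j)
  rw [map_sub, relQ, map_sub]
  refine congrArg₂ (· - ·) ((MvPolynomial.aeval_X _ j).trans ?_) (((toLau A r).commutes (a j)).trans ((emb A r).commutes (a j)).symm)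
  rw [show (MvPolynomial.X none * MvPolynomial.X (some j) : MvPolynomial (Option (Fin r)) A) =
    MvPolynomial.monomial (Finsupp.single none 1 + Finsupp.single (some j) 1) 1 by
      rw [MvPolynomial.X, MvPolynomial.X, MvPolynomial.monomial_mul, one_mul], emb_monomial]
  congr 1
  rw [map_add, uT]
  congr 1 <;> simp [castGr]

theorem kR_consX (ha : KR (List.ofFn a)) :
    KR (List.ofFn (Fin.cons Polynomial.X fun j => Polynomial.C (a j) : Fin (r + 1) → Polynomial A)) := by
  rw [List.ofFn_succ]
  simp only [Fin.cons_zero, Fin.cons_succ]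
  have hmap : (List.ofFn fun j => Polynomial.C (a j)) = (List.ofFn a).map (algebraMap A (Polynomial A)) := by
    rw [List.map_ofFn]; rfl
  rw [hmap]
  refine kR_cons_of_regular _ _ (KR.map ha) fun p hp => ?_
  rw [← LCI19.map_ofList, show algebraMap A (Polynomial A) = Polynomial.C from rfl, Ideal.mem_map_C_iff] at hp ⊢
  intro k
  rw [← Polynomial.coeff_X_mul p k]
  exact hp (k + 1)

theorem kR_relQ (ha : KR (List.ofFn a)) : KR (List.ofFn (relQ a)) := by
  let B := Polynomial A
  let a' : Fin (r + 1) → B := Fin.cons Polynomial.X fun j => Polynomial.C (a j)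
  have ha' : KR (List.ofFn a') := kR_consX a ha
  have h := KoszulBlow.kR_rels a' ha'
  let e := (MvPolynomial.optionEquivRight A (Fin r)).symm.toAlgHom.toRingHom
  letI : Algebra (MvPolynomial (Fin r) B) (MvPolynomial (Option (Fin r)) A) := e.toAlgebra
  haveI : Module.Flat (MvPolynomial (Fin r) B) (MvPolynomial (Option (Fin r)) A) :=
    Module.Flat.of_linearEquiv (R := MvPolynomial (Fin r) B) (M := MvPolynomial (Fin r) B)
      (LinearEquiv.ofBijective (Algebra.linearMap _ _)
        (MvPolynomial.optionEquivRight A (Fin r)).symm.bijective).symm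
  convert KR.map (B := MvPolynomial (Option (Fin r)) A) h using 1
  rw [KoszulBlow.rels, List.map_ofFn]
  refine congrArg List.ofFn (funext fun j => ?_)
  refine (MvPolynomial.optionEquivRight A (Fin r)).injective ?_
  show _ = MvPolynomial.optionEquivRight A (Fin r) ((MvPolynomial.optionEquivRight A (Fin r)).symm (LC16.BlowTor.rel a' j))
  rw [AlgEquiv.apply_symm_apply, relQ, map_sub, map_mul, MvPolynomial.optionEquivRight_X_none,
    MvPolynomial.optionEquivRight_X_some, MvPolynomial.optionEquivRight_C, LC16.BlowTor.rel]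
  simp [a']

theorem kRMod_Pn (ha : KR (List.ofFn a)) (n : ℤ) {m : ℕ} (b : Fin m → Fin r) :
    KRMod (relC a) (Pn A n b) := by
  refine (kRMod_of_kR (B := Pb A b) ?_).retract (inclPb n b) (projPb n b) (projPb_inclPb n b)
  haveI : Module.Flat (MvPolynomial (Option (Fin r)) A) (Pb A b) :=
    IsLocalization.flat _ (Submonoid.powers (tb b : MvPolynomial (Option (Fin r)) A))
  convert KR.map (B := Pb A b) (kR_relQ a ha) using 1
  rw [relC, List.map_ofFn, List.map_ofFn]
  exact congrArg List.ofFn (funext fun j => algebraMap_rel a b j)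

/-- The map to the deformation to the normal cone, off the special fibre. -/
def Φ : MvPolynomial (Option (Fin r)) A →ₐ[A] Localization.Away (Polynomial.X : Polynomial A) :=
  MvPolynomial.aeval fun o => o.elim (algebraMap (Polynomial A) _ Polynomial.X) fun j =>
    algebraMap A _ (a j) * IsLocalization.Away.invSelf (Polynomial.X : Polynomial A)

/-- The unit `u`. -/
def uX : (Localization.Away (Polynomial.X : Polynomial A))ˣ :=
  (IsLocalization.Away.algebraMap_isUnit (Polynomial.X : Polynomial A)).unit

theorem Φ_monomial (e : Option (Fin r) →₀ ℕ) :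
    Φ a (MvPolynomial.monomial e 1) = algebraMap A _ (evQ a (MvPolynomial.monomial e 1)) *
      ((uX (A := A)) ^ (-deg (castGr r e)) : (Localization.Away (Polynomial.X : Polynomial A))ˣ) := by
  induction e using Finsupp.induction_linear with
  | zero => simp
  | add e e' he he' =>
    rw [show (MvPolynomial.monomial (e + e') (1 : A)) =
      MvPolynomial.monomial e 1 * MvPolynomial.monomial e' 1 by rw [MvPolynomial.monomial_mul, one_mul],
      map_mul, he, he', map_mul, map_mul, map_add, map_add, neg_add, zpow_add, Units.val_mul]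
    ring
  | single o k =>
    rw [← MvPolynomial.X_pow_eq_monomial, map_pow, map_pow, map_pow]
    rcases o with _ | j
    · have hd : -deg (castGr r (Finsupp.single (none : Option (Fin r)) k)) = (k : ℤ) := by
        simp [deg_apply, Finsupp.single_apply]
      rw [hd, zpow_natCast, Units.val_pow_eq_pow_val]
      simp [Φ, evQ, uX]
    · have hd : -deg (castGr r (Finsupp.single (some j) k)) = -(k : ℤ) := by
        simp [deg_apply, Finsupp.single_apply]
      rw [hd, zpow_neg, zpow_natCast, ← inv_pow, Units.val_pow_eq_pow_val]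
      simp only [Φ, evQ, MvPolynomial.aeval_X, Option.elim_some, mul_pow]
      congr 2
      have h : ((uX (A := A)) : Localization.Away (Polynomial.X : Polynomial A)) *
          IsLocalization.Away.invSelf (Polynomial.X : Polynomial A) = 1 :=
        IsLocalization.Away.mul_invSelf _
      exact (Units.inv_eq_of_mul_eq_one_right h).symm

theorem Φ_eq_zero_of_homogeneous {N : ℤ} {q : MvPolynomial (Option (Fin r)) A}
    (hq : ∀ e ∈ q.support, deg (castGr r e) = N) (h : evQ a q = 0) : Φ a q = 0 := by
  have key : Φ a q = algebraMap A _ (evQ a q) *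
      ((uX (A := A)) ^ (-N) : (Localization.Away (Polynomial.X : Polynomial A))ˣ) := by
    conv_lhs => rw [q.as_sum]
    conv_rhs => rw [q.as_sum]
    rw [map_sum, map_sum, map_sum, Finset.sum_mul]
    refine Finset.sum_congr rfl fun e he => ?_
    rw [show MvPolynomial.monomial e (q.coeff e) = q.coeff e • MvPolynomial.monomial e (1 : A) by
      rw [MvPolynomial.smul_monomial, smul_eq_mul, mul_one], map_smul, map_smul, Φ_monomial, hq e he,
      smul_eq_mul, map_mul, Algebra.smul_def, mul_assoc]
  rw [key, h, map_zero, zero_mul]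

theorem mem_span_relQ (ha : KR (List.ofFn a)) {q : MvPolynomial (Option (Fin r)) A} (hq : Φ a q = 0) :
    q ∈ Ideal.span (Set.range (relQ a)) := by
  let B := Polynomial A
  let a' : Fin (r + 1) → B := Fin.cons Polynomial.X fun j => Polynomial.C (a j)
  have ha' : KR (List.ofFn a') := kR_consX a ha
  obtain ⟨μ, hμ⟩ := KoszulBlow.exists_hom a'
  let E := MvPolynomial.optionEquivRight A (Fin r)
  have hΦ : ∀ q, Φ a q = ((μ (E q) : BlowUp.affineAlgebra B (Ideal.span (Set.range a')) (a' 0)) :
      Localization.Away (a' 0)) := by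
    intro q
    let ψ : MvPolynomial (Option (Fin r)) A →ₐ[A] Localization.Away (Polynomial.X : Polynomial A) :=
      (((Subalgebra.val _).comp μ).restrictScalars A).comp E.toAlgHom
    suffices Φ a = ψ from DFunLike.congr_fun this q
    refine MvPolynomial.algHom_ext fun o => ?_
    rcases o with _ | j
    · simp only [Φ, MvPolynomial.aeval_X, Option.elim_none, ψ, AlgHom.comp_apply]
      show _ = ((μ (E (MvPolynomial.X none))) : Localization.Away (a' 0))
      rw [MvPolynomial.optionEquivRight_X_none, ← MvPolynomial.algebraMap_eq, AlgHom.commutes]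
      rfl
    · simp only [Φ, MvPolynomial.aeval_X, Option.elim_some, ψ, AlgHom.comp_apply]
      show _ = ((μ (E (MvPolynomial.X (some j)))) : Localization.Away (a' 0))
      rw [MvPolynomial.optionEquivRight_X_some, KoszulBlow.val_X a' μ hμ]
      refine (IsLocalization.Away.algebraMap_isUnit (a' 0) (S := Localization.Away (a' 0))).mul_left_cancel ?_
      rw [LC16.BlowTor.a0_mul_frac]
      have hinv : algebraMap B (Localization.Away (Polynomial.X : B)) Polynomial.X *
          IsLocalization.Away.invSelf (Polynomial.X : B) = 1 := IsLocalization.Away.mul_invSelf _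
      calc algebraMap B (Localization.Away (Polynomial.X : B)) Polynomial.X *
            (algebraMap A (Localization.Away (Polynomial.X : B)) (a j) *
              IsLocalization.Away.invSelf (Polynomial.X : B)) =
          algebraMap A (Localization.Away (Polynomial.X : B)) (a j) *
            (algebraMap B (Localization.Away (Polynomial.X : B)) Polynomial.X *
              IsLocalization.Away.invSelf (Polynomial.X : B)) := mul_left_comm _ _ _
        _ = algebraMap A (Localization.Away (Polynomial.X : B)) (a j) := by rw [hinv, mul_one]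
        _ = _ := IsScalarTower.algebraMap_apply A B _ (a j)
  rw [hΦ] at hq
  have h1 : E q ∈ RingHom.ker μ := Subtype.ext hq
  rw [KoszulBlow.ker_eq a' μ hμ ha', KoszulBlow.rels, Ideal.ofList] at h1
  have h2 := Ideal.mem_map_of_mem E.symm.toAlgHom.toRingHom h1
  rw [Ideal.map_span] at h2
  refine Ideal.span_mono ?_ (by simpa using h2)
  rintro _ ⟨_, ⟨j, rfl⟩, rfl⟩
  refine ⟨j, E.injective ?_⟩
  show _ = E (E.symm (LC16.BlowTor.rel a' j))
  rw [AlgEquiv.apply_symm_apply, relQ, map_sub, map_mul, MvPolynomial.optionEquivRight_X_none,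
    MvPolynomial.optionEquivRight_X_some, MvPolynomial.optionEquivRight_C, LC16.BlowTor.rel]
  simp [a']

theorem deg_castGr_expb {m : ℕ} (b : Fin m → Fin r) : deg (castGr r (expb b)) = (m : ℤ) := by
  rw [expb, map_sum, map_sum]
  simp [deg_apply, Finsupp.single_apply]

theorem coeff_emb_apply (q : MvPolynomial (Option (Fin r)) A) (e : Option (Fin r) →₀ ℕ) :
    (emb A r q).coeff (castGr r e) = q.coeff e := by
  rw [coeff_emb, Finsupp.mapDomain_apply castGr_injective]
  rfl

/-- The kernel of evaluation in each degree. -/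
theorem exists_of_evN_eq_zero (ha : KR (List.ofFn a)) {n : ℤ} {m : ℕ} (b : Fin m → Fin r)
    (p : Pn A n b) (hp : evN a n b p = 0) :
    ∃ y : Fin r → Pn A n b, p = ∑ j, (MvPolynomial.X j - MvPolynomial.C (a j) : Coef A r) • y j := by
  obtain ⟨M, q, hq⟩ := exists_emb_eq b (Pn_le_Pb n b p.2)
  have hqP : algebraMap (MvPolynomial (Option (Fin r)) A) (Pb A b) q =
      algebraMap (MvPolynomial (Option (Fin r)) A) (Pb A b) (tb b) ^ M * inclPb n b p := Subtype.ext hq
  have h0 : algebraMap A (L a b) (evQ a q) = 0 := by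
    rw [← ev_algebraMap, hqP, map_mul, show ev a b (inclPb n b p) = 0 from hp, mul_zero]
  obtain ⟨⟨_, K, rfl⟩, hK⟩ := (IsLocalization.map_eq_zero_iff (Submonoid.powers (ab a b)) (L a b) _).1 h0
  let q' := tb b ^ K * q
  have hev : evQ a q' = 0 := by rw [map_mul, map_pow, evQ_tb]; exact hK
  have hq' : emb A r q' = AddMonoidAlgebra.single ((K + M) • castGr r (expb b)) 1 * p.1 := by
    rw [map_mul, map_pow, hq, ← mul_assoc, ← pow_add, tb_eq, emb_monomial,
      AddMonoidAlgebra.single_pow, one_pow]
  have hhom : ∀ e ∈ q'.support, deg (castGr r e) = n + ((K + M : ℕ) : ℤ) * m := by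
    intro e he
    by_contra hne
    refine MvPolynomial.mem_support_iff.1 he ?_
    rw [← coeff_emb_apply, hq', AddMonoidAlgebra.coeff_single_mul_apply, one_mul]
    refine mem_Pn.1 p.2 _ fun h => hne ?_
    have h2 := h.2
    rw [map_add, map_neg, map_nsmul, deg_castGr_expb, nsmul_eq_mul] at h2
    linarith
  obtain ⟨c, hc⟩ := Ideal.mem_span_range_iff_exists_fun.1
    (mem_span_relQ a ha (Φ_eq_zero_of_homogeneous a hhom hev))
  obtain ⟨v, hv⟩ := ((isUnit_tb (A := A) b).pow (K + M)).exists_left_inv
  refine ⟨fun j => projPb n b (v * algebraMap _ _ (c j)), ?_⟩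
  have h3 : inclPb n b p = ∑ j, (MvPolynomial.X j - MvPolynomial.C (a j) : Coef A r) •
      (v * algebraMap (MvPolynomial (Option (Fin r)) A) (Pb A b) (c j)) := by
    have h4 : algebraMap (MvPolynomial (Option (Fin r)) A) (Pb A b) q' =
        algebraMap (MvPolynomial (Option (Fin r)) A) (Pb A b) (tb b) ^ (K + M) * inclPb n b p := by
      rw [map_mul, map_pow, hqP, ← mul_assoc, ← pow_add]
    rw [← one_mul (inclPb n b p), ← hv, mul_assoc, ← h4, ← hc, map_sum, Finset.mul_sum]
    refine Finset.sum_congr rfl fun j _ => ?_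
    rw [Algebra.smul_def, algebraMap_rel, map_mul]
    ring
  have h5 := congrArg (projPb n b) h3
  rw [map_sum, show projPb n b (inclPb n b p) = p from LinearMap.congr_fun (projPb_inclPb n b) p] at h5
  simp only [map_smul] at h5
  exact h5

theorem evN_smul_eq_zero {n : ℤ} {m : ℕ} (b : Fin m → Fin r) {s : Coef A r}
    (hs : s ∈ Ideal.ofList (relC a)) (y : Pn A n b) : evN a n b (s • y) = 0 := by
  show ev a b (inclPb n b (s • y)) = 0
  rw [map_smul, Algebra.smul_def, map_mul]
  have : s ∈ RingHom.ker ((ev a b).comp (algebraMap (Coef A r) (Pb A b))) := by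
    refine (show Ideal.ofList (relC a) ≤ _ from Ideal.span_le.2 fun x hx => ?_) hs
    obtain ⟨j, rfl⟩ := List.mem_ofFn.1 hx
    show ev a b (algebraMap _ _ _) = 0
    rw [algebraMap_rel, ev_algebraMap, relQ]
    simp [evQ]
  rw [RingHom.mem_ker, RingHom.comp_apply] at this
  rw [this, zero_mul]

theorem mem_smul_top_iff (ha : KR (List.ofFn a)) (n : ℤ) (m : ℕ) (z : Coch A r n m) :
    z ∈ Ideal.ofList (relC a) • (⊤ : Submodule (Coef A r) (Coch A r n m)) ↔
      ∀ b, evN a n b (z b) = 0 := by
  constructor
  · intro hz b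
    refine Submodule.smul_induction_on hz (fun s hs y _ => evN_smul_eq_zero a b hs (y b))
      (fun x y hx hy => ?_)
    rw [Pi.add_apply, map_add, hx, hy, add_zero]
  · intro hz
    choose y hy using fun b => exists_of_evN_eq_zero a ha b (z b) (hz b)
    rw [show z = ∑ j, (MvPolynomial.X j - MvPolynomial.C (a j) : Coef A r) • fun b => y b j from
      funext fun b => by rw [hy b]; simp]
    exact Submodule.sum_mem _ fun j _ => Submodule.smul_mem_smul
      (Ideal.subset_span (List.mem_ofFn.2 ⟨j, rfl⟩)) trivial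

/-- The face of a tuple, as restriction data. -/
theorem le_face {m : ℕ} (b : Fin (m + 1) → Fin r) (j : Fin (m + 1)) :
    ∀ k, ∃ k', b k' = (b ∘ j.succAbove) k := fun k => ⟨_, rfl⟩

theorem evN_dC (n : ℤ) {m : ℕ} (z : Coch A r n m) (b : Fin (m + 1) → Fin r) :
    evN a n b (dC A r n m z b) =
      ∑ j : Fin (m + 1), (-1 : ℤ) ^ (j : ℕ) • res a (le_face b j) (evN a n _ (z (b ∘ j.succAbove))) := by
  let w : ∀ j : Fin (m + 1), Pn A n b := fun j =>
    ⟨(z (b ∘ j.succAbove)).1, Pn_mono (le_face b j) (z _).2⟩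
  have h : dC A r n m z b = ∑ j : Fin (m + 1), (-1 : ℤ) ^ (j : ℕ) • w j := Subtype.ext (by
    rw [coe_dC, Submodule.coe_sum]
    rfl)
  rw [h, map_sum]
  refine Finset.sum_congr rfl fun j _ => ?_
  rw [map_zsmul]
  congr 1
  exact (res_ev a (le_face b j) (inclPb n _ (z (b ∘ j.succAbove)))).symm

variable {a}

/-- The Čech complex of the twist `n > -r` is exact at the start. -/
theorem eq_zero_of_res (ha : KR (List.ofFn a)) {n : ℤ} (hn : -(r : ℤ) < n) (x : L a (Fin.elim0 : Fin 0 → Fin r))
    (hx : x ∈ N a n (Fin.elim0 : Fin 0 → Fin r))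
    (h : ∀ i : Fin r, res a (le_face (fun _ : Fin 1 => i) 0)
      (cast (congrArg (L a) (Subsingleton.elim _ _)) x) = 0) : x = 0 := by
  obtain ⟨p, rfl⟩ := hx
  let z : Coch A r n 0 := fun b => cast (congrArg (fun b => ↥(Pn A n b)) (Subsingleton.elim _ b)) p
  obtain ⟨h0, -⟩ := rows_mod (dC_injective n hn) (dC_exact n hn) (fun m => KRMod.pi fun b => kRMod_Pn a ha n b)
  have h1 := (mem_smul_top_iff a ha n 0 z).1 (h0 z ((mem_smul_top_iff a ha n 1 _).2 fun b => ?_))
    Fin.elim0
  · exact h1
  · rw [evN_dC, Fin.sum_univ_one, Fin.val_zero, pow_zero, one_smul]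
    obtain ⟨i, rfl⟩ : ∃ i, b = fun _ => i := ⟨b 0, funext fun k => by rw [Subsingleton.elim k 0]⟩
    refine Eq.trans ?_ (h i)
    congr 1
    have : ∀ (b : Fin 0 → Fin r) (e : Fin.elim0 = b), evN a n b (cast (congrArg (fun b => ↥(Pn A n b)) e) p) =
        cast (congrArg (L a) e) (evN a n Fin.elim0 p) := by rintro b rfl; rfl
    exact this _ (Subsingleton.elim _ _)

/-- The Čech complex of the twist `n > -r` is exact. -/
theorem exists_face (ha : KR (List.ofFn a)) {n : ℤ} (hn : -(r : ℤ) < n) (m : ℕ)
    (z : ∀ b : Fin (m + 1) → Fin r, L a b) (hz : ∀ b, z b ∈ N a n b)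
    (hd : ∀ b : Fin (m + 1 + 1) → Fin r,
      ∑ j : Fin (m + 1 + 1), (-1 : ℤ) ^ (j : ℕ) • res a (le_face b j) (z (b ∘ j.succAbove)) = 0) :
    ∃ w : ∀ b : Fin m → Fin r, L a b, (∀ b, w b ∈ N a n b) ∧ ∀ b : Fin (m + 1) → Fin r,
      z b = ∑ j : Fin (m + 1), (-1 : ℤ) ^ (j : ℕ) • res a (le_face b j) (w (b ∘ j.succAbove)) := by
  choose p hp using hz
  obtain ⟨-, h1⟩ := rows_mod (dC_injective n hn) (dC_exact n hn) (fun m => KRMod.pi fun b => kRMod_Pn a ha n b)
  obtain ⟨w, hw⟩ := h1 m p ((mem_smul_top_iff a ha n _ _).2 fun b => by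
    rw [evN_dC]
    simp only [hp]
    exact hd b)
  refine ⟨fun b => evN a n b (w b), fun b => ⟨w b, rfl⟩, fun b => ?_⟩
  have h2 := (mem_smul_top_iff a ha n _ _).1 hw b
  rw [Pi.sub_apply, map_sub, sub_eq_zero, hp, evN_dC] at h2
  exact h2

end Groth.Agent.RegImm10.BlowCech
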