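import Groth.Agent.RegImm10.BlowCharts
import Groth.Agent.RegImm10.BlowCech.Main
import Groth.Agent.Div89.Cartier

/-!
The standard charts of a blow-up over an affine open.
-/

set_option autoImplicit false
set_option linter.style.haveILetI false
set_option backward.isDefEq.respectTransparency.types false

noncomputable section

universe u

open CategoryTheory CategoryTheory.Limits AlgebraicGeometry
open scoped nonZeroDivisors

namespace Groth.Agent.RegImm10.BlowCech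

variable {X X' : Scheme.{u}} {b : X' ⟶ X} {I : X.IdealSheafData} {U : X.Opens}

/-- The pull back of a function of the base to an open. -/
abbrev pb (b : X' ⟶ X) {U : X.Opens} {V : X'.Opens} (h : V ≤ b ⁻¹ᵁ U) :
    Γ(X, U) →+* Γ(X', V) := (b.appLE U V h).hom

theorem pb_res (b : X' ⟶ X) {U : X.Opens} {V W : X'.Opens} (h : V ≤ b ⁻¹ᵁ U) (hW : W ≤ V)
    (y : Γ(X, U)) : X'.presheaf.map (homOfLE hW).op (pb b h y) = pb b (hW.trans h) y :=
  congr($(Scheme.Hom.appLE_map b h (homOfLE hW).op).hom y)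

/-- Germ of a function of the base. -/
abbrev germU (b : X' ⟶ X) {U : X.Opens} {x : X'} (hx : x ∈ b ⁻¹ᵁ U) : Γ(X, U) →+* X'.presheaf.stalk x :=
  (X'.presheaf.germ (b ⁻¹ᵁ U) x hx).hom.comp (b.app U).hom

theorem germ_pb (b : X' ⟶ X) {U : X.Opens} {V : X'.Opens} (h : V ≤ b ⁻¹ᵁ U) {x : X'} (hx : x ∈ V)
    (y : Γ(X, U)) : X'.presheaf.germ V x hx (pb b h y) = germU b (h hx) y := by
  rw [pb, Scheme.Hom.appLE]
  exact TopCat.Presheaf.germ_res_apply _ _ _ _ _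

/-- A member of the standard cover: an affine open with ring the affine blow-up algebra. -/
structure Chart (b : X' ⟶ X) (U : X.Opens) (𝔞 : Ideal Γ(X, U)) (a : Γ(X, U)) where
  W : X'.Opens
  affine : IsAffineOpen W
  le : W ≤ b ⁻¹ᵁ U
  ε : BlowUp.affineAlgebra Γ(X, U) 𝔞 a ≃+* Γ(X', W)
  compat : ∀ y, ε (algebraMap _ _ y) = pb b le y
  mem_iff : ∀ x, x ∈ W ↔ ∃ hx : x ∈ b ⁻¹ᵁ U, ∀ y ∈ 𝔞, germU b hx a ∣ germU b hx y

theorem Chart.nzd {𝔞 : Ideal Γ(X, U)} {a : Γ(X, U)} (C : Chart b U 𝔞 a) :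
    pb b C.le a ∈ Γ(X', C.W)⁰ := by
  rw [← C.compat]
  exact (MulEquivClass.map_nonZeroDivisors C.ε ▸
    Submonoid.mem_map_of_mem _ (FBlow13.affineAlgebra_nzd (𝔞 := 𝔞) a) :)

theorem Chart.exists_div {𝔞 : Ideal Γ(X, U)} {a : Γ(X, U)} (C : Chart b U 𝔞 a) {y : Γ(X, U)}
    (hy : y ∈ 𝔞) : ∃ c : Γ(X', C.W), pb b C.le y = c * pb b C.le a := by
  obtain ⟨c, hc⟩ := FBlow13.affineAlgebra_div (a := a) hy
  exact ⟨C.ε c, by rw [← C.compat, ← C.compat, hc, map_mul]⟩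

theorem exists_open_chart (hb : BlowUp.IsBlowUp b I) (hU : IsAffineOpen U) {a : Γ(X, U)}
    (ha : a ∈ I.ideal ⟨U, hU⟩) :
    ∃ (W : X'.Opens) (_ : IsAffineOpen W) (e : W ≤ b ⁻¹ᵁ U)
      (ε : BlowUp.affineAlgebra Γ(X, U) (I.ideal ⟨U, hU⟩) a ≃+* Γ(X', W)),
      (∀ y, ε (algebraMap _ _ y) = pb b e y) ∧
      W = (b ⁻¹ᵁ U).ι ''ᵁ FBlow13.chartOpen ((b ∣_ U) ≫ hU.isoSpec.hom) (I.ideal ⟨U, hU⟩) a := by
  have h := BlowModel.isBlowUp_affine hb hU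
  let π := (b ∣_ U) ≫ hU.isoSpec.hom
  obtain ⟨e, he⟩ := FBlow13.exists_iso_chartOpen π h ha
  let C := CommRingCat.of (BlowUp.affineAlgebra Γ(X, U) (I.ideal ⟨U, hU⟩) a)
  let j : Spec C ⟶ X' := e.hom ≫ (FBlow13.chartOpen π (I.ideal ⟨U, hU⟩) a).ι ≫ (b ⁻¹ᵁ U).ι
  have hj : j ≫ b = Spec.map (CommRingCat.ofHom (algebraMap Γ(X, U) _)) ≫ hU.fromSpec := by
    change _ = FBlow13.chartMor _ _ a ≫ hU.fromSpec
    rw [← he]
    simp only [j, π, C, Category.assoc, hU.isoSpec_hom_fromSpec, morphismRestrict_ι]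
  let V : X'.Opens := j ''ᵁ ⊤
  have hV : IsAffineOpen V := (isAffineOpen_top _).image_of_isOpenImmersion j
  have heq : V = (b ⁻¹ᵁ U).ι ''ᵁ FBlow13.chartOpen π (I.ideal ⟨U, hU⟩) a := by
    refine le_antisymm ?_ ?_
    · rintro _ ⟨w, -, rfl⟩
      exact ⟨(FBlow13.chartOpen π (I.ideal ⟨U, hU⟩) a).ι (e.hom w), (e.hom w).2, rfl⟩
    · rintro _ ⟨y, hy, rfl⟩
      refine ⟨e.inv ⟨y, hy⟩, trivial, ?_⟩
      show (b ⁻¹ᵁ U).ι ((FBlow13.chartOpen π (I.ideal ⟨U, hU⟩) a).ι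
        ((e.inv ≫ e.hom) ⟨y, hy⟩)) = _
      rw [e.inv_hom_id]
      rfl
  have hVU : V ≤ b ⁻¹ᵁ U := by
    rw [heq]
    exact (b ⁻¹ᵁ U).ι_image_le _
  let ι' : C ≅ Γ(X', V) := (Scheme.ΓSpecIso C).symm ≪≫ (j.appIso ⊤).symm
  refine ⟨V, hV, hVU, ι'.commRingCatIsoToRingEquiv, fun r => ?_, heq⟩
  have h1 : b.appLE U V hVU ≫ (j.appIso ⊤).hom =
      CommRingCat.ofHom (algebraMap Γ(X, U) C) ≫ (Scheme.ΓSpecIso C).inv := by
    rw [Scheme.Hom.appIso_hom', Scheme.Hom.appLE_comp_appLE]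
    have h2 : ∀ (f : Spec C ⟶ X) (e : ⊤ ≤ f ⁻¹ᵁ U),
        f = Spec.map (CommRingCat.ofHom (algebraMap Γ(X, U) C)) ≫ hU.fromSpec →
        f.appLE U ⊤ e = CommRingCat.ofHom (algebraMap Γ(X, U) C) ≫ (Scheme.ΓSpecIso C).inv := by
      rintro f e rfl
      rw [← Scheme.Hom.appLE_comp_appLE _ _ U ⊤ ⊤ hU.fromSpec_preimage_self.ge le_top,
        Scheme.Hom.appLE, hU.fromSpec_app_self, Scheme.ΓSpecIso_inv_naturality]
      simp only [Category.assoc, ← Functor.map_comp, Scheme.Hom.appTop, Scheme.Hom.app_eq_appLE]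
      rfl
    exact h2 _ _ hj
  show (j.appIso ⊤).inv ((Scheme.ΓSpecIso C).inv (algebraMap Γ(X, U) C r)) = _
  rw [show (Scheme.ΓSpecIso C).inv (algebraMap Γ(X, U) C r) = (j.appIso ⊤).hom ((b.appLE U V hVU) r)
    from congr($(h1.symm).hom r)]
  exact (j.appIso ⊤).hom_inv_id_apply _

variable {ι : Type} {a : ι → Γ(X, U)}

/-- The standard charts exist, for a family of generators of the centre. -/
theorem nonempty_chart (hb : BlowUp.IsBlowUp b I) (hU : IsAffineOpen U)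
    (ha : Ideal.span (Set.range a) = I.ideal ⟨U, hU⟩) (i : ι) :
    Nonempty (Chart b U (I.ideal ⟨U, hU⟩) (a i)) := by
  have hmem : ∀ k, a k ∈ I.ideal ⟨U, hU⟩ := fun k => ha ▸ Ideal.subset_span ⟨k, rfl⟩
  choose W hW hle ε hε hWeq using fun k => exists_open_chart hb hU (hmem k)
  refine ⟨⟨W i, hW i, hle i, ε i, hε i, fun x => ⟨fun hx => ?_, ?_⟩⟩⟩
  · refine ⟨hle i hx, fun y hy => ?_⟩
    obtain ⟨c, hc⟩ := FBlow13.affineAlgebra_div (a := a i) hy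
    refine ⟨X'.presheaf.germ (W i) x hx (ε i c), ?_⟩
    rw [← germ_pb b (hle i) hx, ← germ_pb b (hle i) hx, ← hε i, ← hε i, hc, map_mul, map_mul, mul_comm]
  rintro ⟨hx, hdiv⟩
  let π := (b ∣_ U) ≫ hU.isoSpec.hom
  have hπ := BlowModel.isBlowUp_affine hb hU
  obtain ⟨_, ⟨k, rfl⟩, hk⟩ := FBlow13.exists_mem_chartOpen_of_span π hπ.1 ha ⟨x, hx⟩
  have hxk : x ∈ W k := by rw [hWeq k]; exact ⟨_, hk, rfl⟩
  obtain ⟨c₀, hc₀⟩ := FBlow13.affineAlgebra_div (a := a k) (hmem i)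
  let c := ε k c₀
  have hc : pb b (hle k) (a i) = c * pb b (hle k) (a k) := by rw [← hε k, ← hε k, hc₀, map_mul]
  have hnz : pb b (hle k) (a k) ∈ Γ(X', W k)⁰ := by
    rw [← hε k]
    exact (MulEquivClass.map_nonZeroDivisors (ε k) ▸
      Submonoid.mem_map_of_mem _ (FBlow13.affineAlgebra_nzd (𝔞 := I.ideal ⟨U, hU⟩) (a k)) :)
  let Q := X'.basicOpen c
  have hxQ : x ∈ Q := by
    refine (X'.mem_basicOpen c x hxk).2 ?_
    obtain ⟨d, hd⟩ := hdiv (a k) (hmem k)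
    rw [← germ_pb b (hle k) hxk, ← germ_pb b (hle k) hxk, hc, map_mul] at hd
    refine IsUnit.of_mul_eq_one d ((mul_cancel_right_mem_nonZeroDivisors
      (Div89.germ_mem_nonZeroDivisors ⟨W k, hW k⟩ hnz x hxk)).1 ?_)
    rw [one_mul]
    exact Eq.trans (by ring) hd.symm
  have hQk : Q ≤ W k := X'.basicOpen_le c
  have hQU : Q ≤ b ⁻¹ᵁ U := hQk.trans (hle k)
  have hQ : IsAffineOpen Q := (hW k).basicOpen c
  let ψ := b.appLE U Q hQU
  let l : Spec Γ(X', Q) ⟶ (b ⁻¹ᵁ U).toScheme := IsOpenImmersion.lift (b ⁻¹ᵁ U).ι hQ.fromSpec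
    (by rw [hQ.range_fromSpec, Scheme.Opens.range_ι]; exact hQU)
  have hl : l ≫ π = Spec.map ψ := by
    rw [← cancel_mono hU.fromSpec]
    simp only [π, Category.assoc, hU.isoSpec_hom_fromSpec, morphismRestrict_ι]
    rw [IsOpenImmersion.lift_fac_assoc, ← hU.SpecMap_appLE_fromSpec b hQ hQU]
  haveI := (hW k).isLocalization_basicOpen c
  have hres : ∀ y, ψ y = algebraMap Γ(X', W k) Γ(X', Q) (pb b (hle k) y) := fun y =>
    (pb_res b (hle k) hQk y).symm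
  have hnz' : ψ (a k) ∈ Γ(X', Q)⁰ := by
    rw [hres]
    exact IsLocalization.map_nonZeroDivisors_le (Submonoid.powers c) Γ(X', Q)
      (Submonoid.mem_map_of_mem _ hnz)
  have hu : IsUnit (algebraMap Γ(X', W k) Γ(X', Q) c) := IsLocalization.Away.algebraMap_isUnit c
  have hai : ψ (a i) = algebraMap Γ(X', W k) Γ(X', Q) c * ψ (a k) := by rw [hres, hres, hc, map_mul]
  have hmap : (I.ideal ⟨U, hU⟩).map ψ.hom = (Ideal.span {a i}).map ψ.hom := by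
    refine le_antisymm (Ideal.map_le_iff_le_comap.2 fun y hy => ?_)
      (Ideal.map_mono ((Ideal.span_singleton_le_iff_mem _).2 (hmem i)))
    obtain ⟨d, hd⟩ := FBlow13.affineAlgebra_div (a := a k) hy
    rw [Ideal.mem_comap, Ideal.map_span, Set.image_singleton,
      show ψ.hom y = algebraMap Γ(X', W k) Γ(X', Q) (pb b (hle k) y) from hres y, ← hε k, hd, map_mul,
      map_mul, hε k, ← hres]
    refine Ideal.mem_span_singleton'.2 ⟨algebraMap Γ(X', W k) Γ(X', Q) (ε k d) * ↑hu.unit⁻¹, ?_⟩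
    show _ * ψ (a i) = _
    rw [hai]
    linear_combination (algebraMap Γ(X', W k) Γ(X', Q) (ε k d) * ψ (a k)) * hu.val_inv_mul
  have hchart : FBlow13.ChartPred Γ(X, U) (I.ideal ⟨U, hU⟩) (a i) _ (l ≫ π) := by
    refine ⟨?_, ?_⟩
    · rw [hl, BlowCharts.comap_specMap, BlowCharts.comap_specMap, hmap]
    · rw [hl, BlowCharts.comap_specMap, Ideal.map_span, Set.image_singleton]
      refine StrictRegular.isEffCartier_idealSpec_span ?_
      show ψ (a i) ∈ _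
      rw [hai]
      exact mul_mem hu.mem_nonZeroDivisors hnz'
  obtain ⟨p, hp⟩ : x ∈ Set.range hQ.fromSpec := by rw [hQ.range_fromSpec]; exact hxQ
  rw [hWeq i]
  refine ⟨l p, FBlow13.range_subset_chartOpen π hπ.1 (hmem i) l hchart p, ?_⟩
  show (l ≫ (b ⁻¹ᵁ U).ι) p = x
  rw [IsOpenImmersion.lift_fac, hp]

theorem exists_mem_chart (hb : BlowUp.IsBlowUp b I) (hU : IsAffineOpen U)
    (ha : Ideal.span (Set.range a) = I.ideal ⟨U, hU⟩)
    (C : ∀ i, Chart b U (I.ideal ⟨U, hU⟩) (a i)) {x : X'} (hx : x ∈ b ⁻¹ᵁ U) :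
    ∃ i, x ∈ (C i).W := by
  let π := (b ∣_ U) ≫ hU.isoSpec.hom
  have hπ := BlowModel.isBlowUp_affine hb hU
  obtain ⟨_, ⟨k, rfl⟩, hk⟩ := FBlow13.exists_mem_chartOpen_of_span π hπ.1 ha ⟨x, hx⟩
  obtain ⟨W, hW, hle, ε, hε, hWeq⟩ := exists_open_chart hb hU
    (show a k ∈ I.ideal ⟨U, hU⟩ from ha ▸ Ideal.subset_span ⟨k, rfl⟩)
  have hxW : x ∈ W := by rw [hWeq]; exact ⟨_, hk, rfl⟩
  refine ⟨k, ((C k).mem_iff x).2 ⟨hx, fun y hy => ?_⟩⟩
  obtain ⟨c, hc⟩ := FBlow13.affineAlgebra_div (a := a k) hy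
  refine ⟨X'.presheaf.germ W x hxW (ε c), ?_⟩
  rw [← germ_pb b hle hxW, ← germ_pb b hle hxW, ← hε, ← hε, hc, map_mul, map_mul, mul_comm]

end Groth.Agent.RegImm10.BlowCech
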