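import Groth.Agent.RegImm10.BlowCech.Sections
import Groth.Agent.CechComp71.Scheme
import Groth.Agent.Coh69.RelVanish
import Groth.Agent.TopCoh49.CechCoh
import Groth.Agent.Var76.ZeroScheme

/-!
Cohomology of the twists `O(n)`, `n > -r`, of a blow-up in a Koszul regular family of `r` elements.
-/

set_option autoImplicit false
set_option linter.style.haveILetI false
set_option backward.isDefEq.respectTransparency.types false

noncomputable section

universe u

open CategoryTheory CategoryTheory.Limits AlgebraicGeometry Opposite TopologicalSpace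
open scoped nonZeroDivisors

namespace Groth.Agent.RegImm10.BlowCech

open Var76 (LineBundle.IsFrame LineBundle.res LineBundle.res_res LineBundle.res_smul)

variable {X X' : Scheme.{u}} {b : X' ⟶ X} {I : X.IdealSheafData}

theorem algebraMap_L_surjective {A : Type u} [CommRing A] {r : ℕ} (a : Fin r → A) (t : Fin 0 → Fin r)
    (x : L a t) : ∃ c, algebraMap A (L a t) c = x := by
  obtain ⟨⟨c, ⟨_, K, rfl⟩⟩, hc⟩ := IsLocalization.surj (Submonoid.powers (ab a t)) x
  refine ⟨c, hc.symm.trans ?_⟩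
  simp [ab]

/-- Every function on the base is a section of `O(n)` for `n ≤ 0`. -/
theorem algebraMap_mem_N {A : Type u} [CommRing A] {r : ℕ} (a : Fin r → A) {n : ℤ} (hn : n ≤ 0)
    {m : ℕ} (t : Fin m → Fin r) (c : A) : algebraMap A (L a t) c ∈ N a n t := by
  let e : Option (Fin r) →₀ ℕ := Finsupp.single none (-n).toNat
  have he : Allowed t (castGr r e) := ⟨by simp [e, castGr], fun j _ => by simp [e, castGr]⟩
  have hd : deg (castGr r e) = n := by
    simp [deg_apply, e, castGr]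
    omega
  refine ⟨⟨_, single_mem_supported (s := {e | Allowed t e ∧ deg e = n}) (g := castGr r e) ⟨he, hd⟩ c⟩, ?_⟩
  refine (ev_single a t e c he).trans ?_
  simp [evQ, e, MvPolynomial.aeval_monomial]

namespace Cover

variable (S : Cover b I)

/-- The charts, indexed in the universe of the schemes. -/
abbrev U' : ULift.{u} (Fin S.r) → X'.Opens := fun i => (S.C i.down).W

theorem iSup_U' : iSup S.U' = b ⁻¹ᵁ S.U := by
  refine le_antisymm (iSup_le fun i => (S.C i.down).le) fun x hx => ?_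
  obtain ⟨i, hi⟩ := exists_mem_chart S.hb S.hU S.span_eq S.C hx
  exact Opens.mem_iSup.2 ⟨⟨i⟩, hi⟩

namespace Twist

variable {S} {F : X'.Modules} {n : ℤ} (T : S.Twist F n)
include T

/-- Exactness of the Čech complex of the twist in positive degrees. -/
theorem cech_exact (hn : -(S.r : ℤ) < n) (p : ℕ)
    (f : TopCoh49.Coch (X := X'.toTopCat) (Coh.toAb F).obj S.U' (p + 1))
    (hf : TopCoh49.cochD (X := X'.toTopCat) (Coh.toAb F).obj S.U' (p + 1) f = 0) :
    ∃ g, TopCoh49.cochD (X := X'.toTopCat) (Coh.toAb F).obj S.U' p g = f := by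
  let up : ∀ {m : ℕ}, (Fin (m + 1) → Fin S.r) → Fin (m + 1) → ULift.{u} (Fin S.r) :=
    fun t k => ⟨t k⟩
  let z : ∀ t : Fin (p + 1 + 1) → Fin S.r, L S.a t := fun t => T.ψ t (f (up t))
  have hd : ∀ t : Fin (p + 1 + 1 + 1) → Fin S.r,
      ∑ j : Fin (p + 1 + 1 + 1), (-1 : ℤ) ^ (j : ℕ) • BlowCech.res S.a (le_face t j) (z (t ∘ j.succAbove)) = 0 := by
    intro t
    let g : Fin (p + 1 + 1 + 1) → Γ(F, S.V t) := fun j =>
      (-1 : ℤ) ^ (j : ℕ) • LineBundle.res F (S.V_mono (le_face t j)) (f (up (t ∘ j.succAbove)))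
    have h0 : ∑ j, g j = 0 := congrFun hf (up t)
    have h := congrArg (T.ψ t) h0
    rw [map_sum, map_zero] at h
    refine Eq.trans (Finset.sum_congr rfl fun j _ => ?_) h
    rw [map_zsmul, T.ψ_res (le_face t j)]
  obtain ⟨w, hw, hwz⟩ := exists_face S.kr hn (p + 1) z (fun t => T.ψ_mem t _) hd
  choose g hg using fun t => (T.ψ_range t (w t)).2 (hw t)
  refine ⟨fun a => g (fun k => (a k).down), funext fun a => ?_⟩
  let t : Fin (p + 1 + 1) → Fin S.r := fun k => (a k).down
  let g' : Fin (p + 1 + 1) → Γ(F, S.V t) := fun j =>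
    (-1 : ℤ) ^ (j : ℕ) • LineBundle.res F (S.V_mono (le_face t j)) (g (t ∘ j.succAbove))
  have h0 : ∑ j, g' j = (f (up t) : Γ(F, S.V t)) := T.ψ_injective t (by
    rw [map_sum]
    refine Eq.trans (Finset.sum_congr rfl fun j _ => ?_) (hwz t).symm
    rw [map_zsmul, T.ψ_res (le_face t j), hg])
  exact h0

theorem subsingleton_E [F.IsQuasicoherent] (hn : -(S.r : ℤ) < n) (p : ℕ) :
    Subsingleton (TopCoh49.E (X := X'.toTopCat) (Coh.toAb F) (p + 1) (b ⁻¹ᵁ S.U)) := by
  rw [← S.iSup_U']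
  obtain ⟨e⟩ := TopCoh49.cech_equiv (X := X'.toTopCat) S.U' (p + 1) (Coh.toAb F) fun m a q =>
    CechComp71.subsingleton_E_affine F (S.isAffineOpen_V fun k => (a k).down) q
  have hz := (TopCoh49.isZero_cechH_succ_iff (X := X'.toTopCat) (Coh.toAb F).obj S.U' p).2 (T.cech_exact hn p)
  exact @Equiv.subsingleton _ _ e.symm.toEquiv (AddCommGrpCat.subsingleton_of_isZero hz)

theorem subsingleton_HE [F.IsQuasicoherent] (hn : -(S.r : ℤ) < n) (p : ℕ) :
    Subsingleton (Coh69.HE (Coh.toAb F) (p + 1) (b ⁻¹ᵁ S.U)) :=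
  T.subsingleton_E hn p

/-- A section over the preimage is the image of a unique function on the base, for `-r < n ≤ 0`. -/
theorem existsUnique_base (hn : -(S.r : ℤ) < n) (hn0 : n ≤ 0) (s : Γ(F, b ⁻¹ᵁ S.U)) :
    ∃! c : Γ(X, S.U), ∀ i : Fin S.r,
      T.ψ (fun _ : Fin 1 => i) (LineBundle.res F (S.V_le_base _) s) =
        algebraMap Γ(X, S.U) (L S.a fun _ : Fin 1 => i) c := by
  let z : ∀ t : Fin (0 + 1) → Fin S.r, L S.a t := fun t => T.ψ t (LineBundle.res F (S.V_le_base t) s)
  have hd : ∀ t : Fin (0 + 1 + 1) → Fin S.r,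
      ∑ j : Fin (0 + 1 + 1), (-1 : ℤ) ^ (j : ℕ) • BlowCech.res S.a (le_face t j) (z (t ∘ j.succAbove)) = 0 := by
    intro t
    have h : ∀ j : Fin 2, BlowCech.res S.a (le_face t j) (z (t ∘ j.succAbove)) =
        T.ψ t (LineBundle.res F (S.V_le_base t) s) := fun j => by
      rw [← T.ψ_res (le_face t j) (S.V_mono (le_face t j)), LineBundle.res_res]
    simp only [h, Fin.sum_univ_two]
    simp
  obtain ⟨w, hw, hwz⟩ := exists_face S.kr hn 0 z (fun t => T.ψ_mem t _) hd
  obtain ⟨c, hc⟩ := algebraMap_L_surjective S.a Fin.elim0 (w Fin.elim0)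
  have hel : ∀ (t : Fin 0 → Fin S.r), w t = algebraMap _ _ c := fun t => by
    obtain rfl : t = Fin.elim0 := Subsingleton.elim _ _
    exact hc.symm
  refine ⟨c, fun i => ?_, fun c' hc' => ?_⟩
  · refine (hwz fun _ => i).trans ?_
    rw [Fin.sum_univ_one, Fin.val_zero, pow_zero, one_smul, hel, AlgHom.commutes]
  · have h0 := eq_zero_of_res S.kr hn (algebraMap Γ(X, S.U) (L S.a Fin.elim0) (c' - c))
      (algebraMap_mem_N S.a hn0 _ _) fun i => ?_
    · rw [map_sub, sub_eq_zero] at h0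
      obtain ⟨⟨_, K, rfl⟩, hK⟩ := (IsLocalization.eq_iff_exists (Submonoid.powers (ab S.a Fin.elim0)) _).1 h0
      simpa [ab] using hK
    · have : ∀ (t t' : Fin 0 → Fin S.r) (e : t = t') (y : Γ(X, S.U)),
          cast (congrArg (L S.a) e) (algebraMap Γ(X, S.U) (L S.a t) y) = algebraMap _ _ y := by
        rintro t t' rfl y; rfl
      rw [this _ _ (Subsingleton.elim _ _), AlgHom.commutes, map_sub, sub_eq_zero, ← hc' i]
      refine (hwz fun _ => i).trans ?_
      rw [Fin.sum_univ_one, Fin.val_zero, pow_zero, one_smul, hel, AlgHom.commutes]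

/-- A section is determined by its values on the charts. -/
theorem eq_of_ψ {s s' : Γ(F, b ⁻¹ᵁ S.U)} (h : ∀ i : Fin S.r,
    T.ψ (fun _ : Fin 1 => i) (LineBundle.res F (S.V_le_base _) s) =
      T.ψ (fun _ : Fin 1 => i) (LineBundle.res F (S.V_le_base _) s')) : s = s' := by
  refine Var76.ZeroScheme.eq_of_locally F s s' fun x hx => ?_
  obtain ⟨i, hi⟩ := exists_mem_chart S.hb S.hU S.span_eq S.C hx
  exact ⟨_, S.V_le_base (fun _ : Fin 1 => i), S.mem_V.2 fun _ => hi, T.ψ_injective _ (h i)⟩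

end Twist

end Cover

end Groth.Agent.RegImm10.BlowCech
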