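import Mathlib.Algebra.MonoidAlgebra.Basic
import Mathlib.Algebra.MonoidAlgebra.Module
import Mathlib.RingTheory.Localization.Away.Basic
import Mathlib.Algebra.MvPolynomial.Eval

/-!
Laurent monomials in `u, T_1, …, T_r` allowed over a tuple of indices: the localisations of the
polynomial ring at products of variables, inside one ambient algebra.
-/

set_option autoImplicit false
set_option linter.style.haveILetI false

noncomputable section

universe u

namespace Groth.Agent.RegImm10.BlowCech

variable (A : Type u) [CommRing A] (r : ℕ)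

/-- Exponents. -/
abbrev Gr (r : ℕ) : Type := Option (Fin r) →₀ ℤ

/-- Laurent polynomials in `u` and the `T_j`. -/
abbrev Lau : Type u := AddMonoidAlgebra A (Gr r)

variable {r}

/-- The degree: `T` has degree `1`, `u` has degree `-1`. -/
def deg : Gr r →+ ℤ where
  toFun e := (∑ j, e (some j)) - e none
  map_zero' := by simp
  map_add' e e' := by simp [Finset.sum_add_distrib]; ring

theorem deg_apply (e : Gr r) : deg e = (∑ j, e (some j)) - e none := rfl

/-- Monomials allowed over a tuple. -/
def Allowed {m : ℕ} (b : Fin m → Fin r) (e : Gr r) : Prop :=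
  0 ≤ e none ∧ ∀ j, (∀ k, b k ≠ j) → 0 ≤ e (some j)

theorem Allowed.add {m : ℕ} {b : Fin m → Fin r} {e e' : Gr r} (h : Allowed b e)
    (h' : Allowed b e') : Allowed b (e + e') :=
  ⟨by simpa using add_nonneg h.1 h'.1, fun j hj => by simpa using add_nonneg (h.2 j hj) (h'.2 j hj)⟩

theorem Allowed.mono {m m' : ℕ} {b : Fin m → Fin r} {b' : Fin m' → Fin r}
    (hb : ∀ k, ∃ k', b' k' = b k) {e : Gr r} (h : Allowed b e) : Allowed b' e :=
  ⟨h.1, fun j hj => h.2 j fun k hk => by obtain ⟨k', hk'⟩ := hb k; exact hj k' (hk'.trans hk)⟩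

theorem allowed_zero {m : ℕ} (b : Fin m → Fin r) : Allowed b (0 : Gr r) :=
  ⟨le_rfl, fun _ _ => le_rfl⟩

/-- The exponent of `u T_j`. -/
def uT (j : Fin r) : Gr r := Finsupp.single none 1 + Finsupp.single (some j) 1

theorem deg_uT (j : Fin r) : deg (uT j) = 0 := by
  simp [deg_apply, uT, Finsupp.single_apply]

theorem allowed_uT {m : ℕ} (b : Fin m → Fin r) (j : Fin r) : Allowed b (uT j) :=
  ⟨by simp [uT, Finsupp.single_apply], fun i _ => by
    simp only [uT, Finsupp.coe_add, Pi.add_apply, Finsupp.single_apply]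
    split_ifs <;> simp⟩

variable {A}

theorem mul_supported {G : Type*} [AddZeroClass G] {s t v : Set G}
    (h : ∀ x ∈ s, ∀ y ∈ t, x + y ∈ v) {p q : AddMonoidAlgebra A G}
    (hp : p ∈ AddMonoidAlgebra.supported A A s) (hq : q ∈ AddMonoidAlgebra.supported A A t) :
    p * q ∈ AddMonoidAlgebra.supported A A v := by
  classical
  rw [AddMonoidAlgebra.mem_supported'] at hp hq ⊢
  intro m hm
  rw [AddMonoidAlgebra.coeff_mul]
  refine Finset.sum_eq_zero fun x hx => Finset.sum_eq_zero fun y hy => if_neg fun he => hm ?_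
  rw [← he]
  exact h x (by_contra fun hx' => Finsupp.mem_support_iff.1 hx (hp x hx'))
    y (by_contra fun hy' => Finsupp.mem_support_iff.1 hy (hq y hy'))

theorem single_mem_supported {G : Type*} {s : Set G} {g : G} (hg : g ∈ s) (c : A) :
    AddMonoidAlgebra.single g c ∈ AddMonoidAlgebra.supported A A s := by
  classical
  rw [AddMonoidAlgebra.mem_supported']
  intro m hm
  simp only [AddMonoidAlgebra.coeff_single, Finsupp.single_apply]
  exact if_neg fun (h : g = m) => hm (h ▸ hg)

variable (A r)

/-- Coefficients for the relations: polynomials in `Y_j = u T_j`. -/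
abbrev Coef : Type u := MvPolynomial (Fin r) A

/-- `Y_j ↦ u T_j` -/
def toLau : Coef A r →ₐ[A] Lau A r :=
  MvPolynomial.aeval fun j => AddMonoidAlgebra.single (uT j) 1

instance : Algebra (Coef A r) (Lau A r) := (toLau A r).toRingHom.toAlgebra

instance : IsScalarTower A (Coef A r) (Lau A r) :=
  IsScalarTower.of_algebraMap_eq fun a => ((toLau A r).commutes a).symm

variable {A r}

/-- Allowed monomials of degree zero. -/
def zeroSet {m : ℕ} (b : Fin m → Fin r) : Set (Gr r) := {e | Allowed b e ∧ deg e = 0}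

theorem toLau_mem {m : ℕ} (b : Fin m → Fin r) (s : Coef A r) :
    toLau A r s ∈ AddMonoidAlgebra.supported A A (zeroSet b) := by
  induction s using MvPolynomial.induction_on with
  | C a =>
    rw [show toLau A r (MvPolynomial.C a) = AddMonoidAlgebra.single 0 a from
      ((toLau A r).commutes a).trans (by simp [AddMonoidAlgebra.coe_algebraMap])]
    exact single_mem_supported (s := zeroSet b) (g := (0 : Gr r)) ⟨allowed_zero b, map_zero _⟩ a
  | add p q hp hq => rw [map_add]; exact add_mem hp hq
  | mul_X p j hp =>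
    rw [map_mul]
    refine mul_supported (s := zeroSet b) (t := zeroSet b) (v := zeroSet b) (fun x hx y hy =>
      ⟨hx.1.add hy.1, by rw [map_add, hx.2, hy.2, add_zero]⟩) hp ?_
    rw [toLau, MvPolynomial.aeval_X]
    exact single_mem_supported (s := zeroSet b) ⟨allowed_uT b j, deg_uT j⟩ 1

variable (A) in
/-- The localisation of the polynomial ring at the product of a tuple. -/
def Pb {m : ℕ} (b : Fin m → Fin r) : Subalgebra (Coef A r) (Lau A r) where
  carrier := AddMonoidAlgebra.supported A A {e | Allowed b e}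
  mul_mem' hp hq := mul_supported (s := {e | Allowed b e}) (t := {e | Allowed b e})
    (fun _ hx _ hy => hx.add hy) hp hq
  one_mem' := single_mem_supported (s := {e | Allowed b e}) (g := (0 : Gr r)) (allowed_zero b) 1
  add_mem' := add_mem
  zero_mem' := zero_mem _
  algebraMap_mem' s := by
    have h := toLau_mem b s
    rw [AddMonoidAlgebra.mem_supported] at h
    exact AddMonoidAlgebra.mem_supported.2 (h.trans fun e he => he.1)

theorem mem_Pb {m : ℕ} {b : Fin m → Fin r} {p : Lau A r} :
    p ∈ Pb A b ↔ ∀ e, ¬ Allowed b e → p.coeff e = 0 :=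
  AddMonoidAlgebra.mem_supported'

variable (A) in
/-- The degree `n` part. -/
def Pn (n : ℤ) {m : ℕ} (b : Fin m → Fin r) : Submodule (Coef A r) (Lau A r) where
  carrier := AddMonoidAlgebra.supported A A {e | Allowed b e ∧ deg e = n}
  add_mem' := add_mem
  zero_mem' := zero_mem _
  smul_mem' s p hp := by
    rw [Algebra.smul_def]
    exact mul_supported (s := zeroSet b) (t := {e | Allowed b e ∧ deg e = n})
      (v := {e | Allowed b e ∧ deg e = n})
      (fun x hx y hy => ⟨hx.1.add hy.1, by rw [map_add, hx.2, hy.2, zero_add]⟩) (toLau_mem b s) hp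

theorem mem_Pn {n : ℤ} {m : ℕ} {b : Fin m → Fin r} {p : Lau A r} :
    p ∈ Pn A n b ↔ ∀ e, ¬ (Allowed b e ∧ deg e = n) → p.coeff e = 0 :=
  AddMonoidAlgebra.mem_supported'

theorem Pn_mono {n : ℤ} {m m' : ℕ} {b : Fin m → Fin r} {b' : Fin m' → Fin r}
    (hb : ∀ k, ∃ k', b' k' = b k) : Pn A n b ≤ Pn A n b' := fun p hp =>
  mem_Pn.2 fun e he => mem_Pn.1 hp e fun h => he ⟨h.1.mono hb, h.2⟩

theorem Pn_le_Pb (n : ℤ) {m : ℕ} (b : Fin m → Fin r) {p : Lau A r} (hp : p ∈ Pn A n b) :
    p ∈ Pb A b := mem_Pb.2 fun e he => mem_Pn.1 hp e fun h => he h.1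

variable (A r) in
/-- Keep the monomials of degree `n`. -/
def projA (n : ℤ) : Lau A r →ₗ[A] Lau A r where
  toFun p := .ofCoeff (p.coeff.filter fun e => deg e = n)
  map_add' p q := AddMonoidAlgebra.ext <| Finsupp.ext fun e => by
    simp [Finsupp.filter_apply, ite_add_ite]
  map_smul' c p := AddMonoidAlgebra.ext <| Finsupp.ext fun e => by simp [Finsupp.filter_apply]

theorem coeff_projA (n : ℤ) (p : Lau A r) (e : Gr r) :
    (projA A r n p).coeff e = if deg e = n then p.coeff e else 0 := by
  simp [projA, Finsupp.filter_apply]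

theorem projA_single_mul (n : ℤ) {g : Gr r} (hg : deg g = 0) (c : A) (p : Lau A r) :
    projA A r n (AddMonoidAlgebra.single g c * p) = AddMonoidAlgebra.single g c * projA A r n p := by
  refine AddMonoidAlgebra.ext <| Finsupp.ext fun e => ?_
  have h : ∀ q : Lau A r, (AddMonoidAlgebra.single g c * q).coeff e = c * q.coeff (-g + e) := by
    intro q
    simp [AddMonoidAlgebra.coeff_single_mul_apply]
  rw [coeff_projA, h, h, coeff_projA, map_add deg, map_neg deg, hg, neg_zero, zero_add, mul_ite, mul_zero]

theorem projA_smul (n : ℤ) (s : Coef A r) (p : Lau A r) :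
    projA A r n (s • p) = s • projA A r n p := by
  rw [Algebra.smul_def, Algebra.smul_def]
  show projA A r n (toLau A r s * p) = toLau A r s * projA A r n p
  induction s using MvPolynomial.induction_on generalizing p with
  | C a =>
    rw [show toLau A r (MvPolynomial.C a) = AddMonoidAlgebra.single 0 a from
      ((toLau A r).commutes a).trans (by simp [AddMonoidAlgebra.coe_algebraMap]),
      projA_single_mul n (map_zero _)]
  | add p q hp hq => simp only [map_add, add_mul, hp, hq]
  | mul_X q j hq =>
    rw [map_mul (toLau A r), mul_assoc, hq, mul_assoc,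
      show toLau A r (MvPolynomial.X j) = AddMonoidAlgebra.single (uT j) 1 from MvPolynomial.aeval_X _ j,
      projA_single_mul n (deg_uT j)]

/-- The inclusion of the degree `n` part. -/
def inclPb (n : ℤ) {m : ℕ} (b : Fin m → Fin r) : Pn A n b →ₗ[Coef A r] Pb A b where
  toFun p := ⟨p.1, Pn_le_Pb n b p.2⟩
  map_add' _ _ := rfl
  map_smul' _ _ := rfl

theorem projA_mem (n : ℤ) {m : ℕ} (b : Fin m → Fin r) {p : Lau A r} (hp : p ∈ Pb A b) :
    projA A r n p ∈ Pn A n b := mem_Pn.2 fun e he => by
  rw [coeff_projA]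
  split_ifs with h
  · exact mem_Pb.1 hp e fun hA => he ⟨hA, h⟩
  · rfl

/-- The projection onto the degree `n` part. -/
def projPb (n : ℤ) {m : ℕ} (b : Fin m → Fin r) : Pb A b →ₗ[Coef A r] Pn A n b where
  toFun p := ⟨projA A r n p.1, projA_mem n b p.2⟩
  map_add' p q := Subtype.ext (map_add _ _ _)
  map_smul' s p := Subtype.ext (projA_smul n s p.1)

theorem projPb_inclPb (n : ℤ) {m : ℕ} (b : Fin m → Fin r) :
    (projPb (A := A) n b).comp (inclPb n b) = LinearMap.id := by
  refine LinearMap.ext fun p => Subtype.ext (AddMonoidAlgebra.ext <| Finsupp.ext fun e => ?_)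
  show (projA A r n p.1).coeff e = p.1.coeff e
  rw [coeff_projA]
  split_ifs with h
  · rfl
  · exact (mem_Pn.1 p.2 e fun he => h he.2).symm

section Loc

variable (r A) in
/-- Exponents of polynomial monomials. -/
def castGr : (Option (Fin r) →₀ ℕ) →+ Gr r := Finsupp.mapRange.addMonoidHom (Nat.castAddMonoidHom ℤ)

@[simp] theorem castGr_apply (e : Option (Fin r) →₀ ℕ) (o : Option (Fin r)) :
    castGr r e o = (e o : ℤ) := rfl

theorem castGr_injective : Function.Injective (castGr r) := fun e e' h =>
  Finsupp.ext fun o => Int.natCast_inj.1 (DFunLike.congr_fun h o)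

variable (A r) in
/-- The polynomial ring in `u` and the `T_j`, inside the Laurent polynomials. -/
def emb : MvPolynomial (Option (Fin r)) A →ₐ[A] Lau A r :=
  AddMonoidAlgebra.mapDomainAlgHom A A (castGr r)

theorem emb_monomial (e : Option (Fin r) →₀ ℕ) (c : A) :
    emb A r (MvPolynomial.monomial e c) = AddMonoidAlgebra.single (castGr r e) c := by
  refine AddMonoidAlgebra.ext <| Finsupp.ext fun x => ?_
  simp [emb, MvPolynomial.monomial]

theorem coeff_emb (q : MvPolynomial (Option (Fin r)) A) :
    (emb A r q).coeff = Finsupp.mapDomain (castGr r) (AddMonoidAlgebra.coeff q) := by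
  simp [emb]

theorem emb_injective : Function.Injective (emb A r) := fun p q h => by
  have := congrArg AddMonoidAlgebra.coeff h
  rw [coeff_emb, coeff_emb] at this
  exact AddMonoidAlgebra.ext <| Finsupp.ext fun e =>
    DFunLike.congr_fun (Finsupp.mapDomain_injective castGr_injective this) e

theorem emb_mem {m : ℕ} (b : Fin m → Fin r) (q : MvPolynomial (Option (Fin r)) A) :
    emb A r q ∈ Pb A b := by
  induction q using MvPolynomial.induction_on' with
  | monomial e c =>
    rw [emb_monomial]
    exact single_mem_supported (s := {e | Allowed b e}) (g := castGr r e)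
      ⟨by simp, fun j _ => by simp⟩ c
  | add p q hp hq => rw [map_add]; exact add_mem hp hq

/-- The product of the variables of a tuple. -/
def tb {m : ℕ} (b : Fin m → Fin r) : MvPolynomial (Option (Fin r)) A :=
  ∏ k, MvPolynomial.X (some (b k))

/-- Its exponent. -/
def expb {m : ℕ} (b : Fin m → Fin r) : Option (Fin r) →₀ ℕ := ∑ k, Finsupp.single (some (b k)) 1

theorem tb_eq {m : ℕ} (b : Fin m → Fin r) : tb (A := A) b = MvPolynomial.monomial (expb b) 1 := by
  rw [tb, expb, MvPolynomial.monomial_sum_one]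
  rfl

instance instAlgebraPb {m : ℕ} (b : Fin m → Fin r) :
    Algebra (MvPolynomial (Option (Fin r)) A) (Pb A b) :=
  ((emb A r).toRingHom.codRestrict (Pb A b).toSubring (emb_mem b)).toAlgebra

theorem coe_algebraMap_Pb {m : ℕ} (b : Fin m → Fin r) (q : MvPolynomial (Option (Fin r)) A) :
    ((algebraMap (MvPolynomial (Option (Fin r)) A) (Pb A b) q : Pb A b) : Lau A r) = emb A r q := rfl

theorem expb_pos {m : ℕ} (b : Fin m → Fin r) (k : Fin m) : 1 ≤ expb b (some (b k)) := by
  rw [expb, Finsupp.finsetSum_apply]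
  refine le_trans ?_ (Finset.single_le_sum (fun _ _ => Nat.zero_le _) (Finset.mem_univ k))
  simp

theorem expb_none {m : ℕ} (b : Fin m → Fin r) : expb b none = 0 := by
  simp [expb, Finsupp.finsetSum_apply]

/-- Every element becomes a polynomial after multiplying by a power of the product. -/
theorem exists_emb_eq {m : ℕ} (b : Fin m → Fin r) {p : Lau A r} (hp : p ∈ Pb A b) :
    ∃ (M : ℕ) (q : MvPolynomial (Option (Fin r)) A), emb A r q = emb A r (tb b) ^ M * p := by
  classical
  let M := p.coeff.support.sup fun e => Finset.univ.sup fun o => (-e o).toNat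
  have hM : ∀ e ∈ p.coeff.support, ∀ o, -e o ≤ (M : ℤ) := fun e he o => by
    have h1 : (-e o).toNat ≤ M :=
      le_trans (Finset.le_sup (f := fun o => (-e o).toNat) (Finset.mem_univ o))
        (Finset.le_sup (f := fun e : Gr r => Finset.univ.sup fun o => (-e o).toNat) he)
    omega
  let sh : Gr r := castGr r (M • expb b)
  have hpos : ∀ e ∈ p.coeff.support, ∀ o, 0 ≤ (sh + e) o := by
    intro e he o
    have hA : Allowed b e := by_contra fun h => Finsupp.mem_support_iff.1 he (mem_Pb.1 hp e h)
    have hs : sh o = (M : ℤ) * (expb b o : ℤ) := by simp [sh]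
    rw [Finsupp.add_apply, hs]
    rcases o with _ | j
    · rw [expb_none]; simpa using hA.1
    · by_cases hj : ∃ k, b k = j
      · obtain ⟨k, rfl⟩ := hj
        have h1 : (1 : ℤ) ≤ (expb b (some (b k)) : ℤ) := by exact_mod_cast expb_pos b k
        have h2 := hM e he (some (b k))
        nlinarith
      · push Not at hj
        exact add_nonneg (by positivity) (hA.2 j hj)
  refine ⟨M, ∑ e ∈ p.coeff.support,
    MvPolynomial.monomial (Finsupp.mapRange Int.toNat rfl (sh + e)) (p.coeff e), ?_⟩
  rw [map_sum, tb_eq, ← map_pow, MvPolynomial.monomial_pow, one_pow, emb_monomial]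
  conv_rhs => rw [show p = ∑ e ∈ p.coeff.support, AddMonoidAlgebra.single e (p.coeff e) from
    AddMonoidAlgebra.ext <| Finsupp.ext fun x => by simp [Finsupp.single_apply, eq_comm]]
  rw [Finset.mul_sum]
  refine Finset.sum_congr rfl fun e he => ?_
  rw [emb_monomial, AddMonoidAlgebra.single_mul_single, one_mul]
  congr 1
  ext o
  have := hpos e he o
  simp [sh] at this ⊢
  omega

theorem isUnit_tb {m : ℕ} (b : Fin m → Fin r) :
    IsUnit (algebraMap (MvPolynomial (Option (Fin r)) A) (Pb A b) (tb b)) := by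
  have hneg : AddMonoidAlgebra.single (-castGr r (expb b)) (1 : A) ∈ Pb A b := by
    refine single_mem_supported (s := {e | Allowed b e}) (g := -castGr r (expb b)) ⟨?_, fun j hj => ?_⟩ 1
    · simp [expb_none]
    · have : expb b (some j) = 0 := by
        simp [expb, Finsupp.finsetSum_apply, Finsupp.single_apply, hj]
      simp [this]
  refine IsUnit.of_mul_eq_one ⟨_, hneg⟩ (Subtype.ext ?_)
  show emb A r (tb b) * AddMonoidAlgebra.single (-castGr r (expb b)) (1 : A) = 1
  rw [tb_eq, emb_monomial, AddMonoidAlgebra.single_mul_single, add_neg_cancel, one_mul]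
  rfl

instance isLocalization_Pb {m : ℕ} (b : Fin m → Fin r) :
    IsLocalization.Away (tb b : MvPolynomial (Option (Fin r)) A) (Pb A b) := by
  refine (isLocalization_iff _ _).2 ⟨?_, fun p => ?_, fun {x y} h => ⟨1, ?_⟩⟩
  · rintro ⟨_, n, rfl⟩
    simp only [map_pow]
    exact (isUnit_tb b).pow n
  · obtain ⟨M, q, hq⟩ := exists_emb_eq b p.2
    refine ⟨⟨q, ⟨_, M, rfl⟩⟩, Subtype.ext ?_⟩
    show p.1 * ((algebraMap (MvPolynomial (Option (Fin r)) A) (Pb A b) (tb b ^ M) : Pb A b) : Lau A r) = _
    rw [coe_algebraMap_Pb, map_pow, mul_comm, ← hq]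
    rfl
  · have := congrArg Subtype.val h
    rw [coe_algebraMap_Pb, coe_algebraMap_Pb] at this
    rw [emb_injective this]

end Loc

end Groth.Agent.RegImm10.BlowCech
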