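import Groth.Agent.RegImm10.BlowCech.Restrict
import Groth.Agent.Desc59.Pic.VectPush
import Groth.Agent.Props58.LocFree.Criteria

/-!
Higher direct images of inverse images of finite locally free modules along a blow-up.
-/

set_option autoImplicit false
set_option linter.style.haveILetI false
set_option backward.isDefEq.respectTransparency.types false

noncomputable section

universe u

open CategoryTheory CategoryTheory.Limits AlgebraicGeometry Opposite TopologicalSpace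
open Groth.Agent.Props58.LocFree

namespace Groth.Agent.RegImm10.BlowCech

variable {X X' : Scheme.{u}} {b : X' ⟶ X} {I : X.IdealSheafData}

namespace Cover

variable (S : Cover b I)

/-- Čech exactness for a module free over the preimage. -/
theorem cech_exact_basis {F : X'.Modules} {N : ℕ} (g : Fin N → Γ(F, b ⁻¹ᵁ S.U))
    (hg : ∀ (P : X'.Opens) (h : P ≤ b ⁻¹ᵁ S.U),
      Function.Bijective fun a : Fin N → Γ(X', P) => ∑ k, a k • QC70.res F h (g k))
    (hr : -(S.r : ℤ) < 0) (p : ℕ)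
    (f : TopCoh49.Coch (X := X'.toTopCat) (Coh.toAb F).obj S.U' (p + 1))
    (hf : TopCoh49.cochD (X := X'.toTopCat) (Coh.toAb F).obj S.U' (p + 1) f = 0) :
    ∃ w, TopCoh49.cochD (X := X'.toTopCat) (Coh.toAb F).obj S.U' p w = f := by
  let O := Coh.structureModule X'
  have hle : ∀ {m : ℕ} (a : Fin (m + 1) → ULift.{u} (Fin S.r)),
      (TopCoh49.inter S.U' a : X'.Opens) ≤ b ⁻¹ᵁ S.U := fun a => S.V_le_base fun k => (a k).down
  have hnat : ∀ {m : ℕ} (a : Fin (m + 2) → ULift.{u} (Fin S.r)) (c : Fin (m + 2) → Fin N →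
      Γ(X', TopCoh49.inter S.U' a)),
      (∑ j : Fin (m + 2), (-1 : ℤ) ^ (j : ℕ) • ∑ k, c j k • QC70.res F (hle a) (g k)) =
        ∑ k, (∑ j : Fin (m + 2), (-1 : ℤ) ^ (j : ℕ) • c j k) • QC70.res F (hle a) (g k) := fun a c => by
    simp only [Finset.smul_sum, Finset.sum_smul, smul_assoc]
    exact Finset.sum_comm
  choose c hc using fun a => (hg _ (hle a)).2 (f a)
  have hres : ∀ {m : ℕ} (a : Fin (m + 2) → ULift.{u} (Fin S.r)) (j : Fin (m + 2))
      (d : Fin N → Γ(X', TopCoh49.inter S.U' (a ∘ j.succAbove))),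
      QC70.res F (TopCoh49.inter_comp_le S.U' a j.succAbove) (∑ k, d k • QC70.res F (hle _) (g k)) =
        ∑ k, (X'.presheaf.map (homOfLE (TopCoh49.inter_comp_le S.U' a j.succAbove)).op (d k)) •
          QC70.res F (hle a) (g k) := fun a j d => by
    rw [QC70.res_sum]
    refine Finset.sum_congr rfl fun k _ => ?_
    rw [QC70.res_smul, QC70.res_res]
  have hcyc : ∀ k, TopCoh49.cochD (X := X'.toTopCat) (Coh.toAb O).obj S.U' (p + 1) (fun a => c a k) = 0 := by
    intro k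
    funext a
    have h0 : (∑ j : Fin (p + 3), (-1 : ℤ) ^ (j : ℕ) •
        QC70.res F (TopCoh49.inter_comp_le S.U' a j.succAbove) (f (a ∘ j.succAbove))) = 0 := congrFun hf a
    simp only [← hc, hres, hnat] at h0
    have h1 := congrFun ((hg _ (hle a)).1 (a₁ := _) (a₂ := 0) (h0.trans (by simp))) k
    exact h1
  choose w hw using fun k => (S.twistOne).cech_exact hr p _ (hcyc k)
  let w' : ∀ (k : Fin N) (a : Fin (p + 1) → ULift.{u} (Fin S.r)), Γ(X', TopCoh49.inter S.U' a) :=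
    fun k a => w k a
  refine ⟨fun a => ∑ k, w' k a • QC70.res F (hle a) (g k), funext fun a => ?_⟩
  show (∑ j : Fin (p + 2), (-1 : ℤ) ^ (j : ℕ) •
        QC70.res F (TopCoh49.inter_comp_le S.U' a j.succAbove)
          (∑ k, w' k (a ∘ j.succAbove) • QC70.res F (hle _) (g k))) = (f a : Γ(F, TopCoh49.inter S.U' a))
  simp only [hres, hnat]
  refine Eq.trans (Finset.sum_congr rfl fun k _ => ?_) (hc a)
  congr 1
  exact congrFun (hw k) a

theorem subsingleton_HE_basis {F : X'.Modules} [F.IsQuasicoherent] {N : ℕ} (g : Fin N → Γ(F, b ⁻¹ᵁ S.U))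
    (hg : ∀ (P : X'.Opens) (h : P ≤ b ⁻¹ᵁ S.U),
      Function.Bijective fun a : Fin N → Γ(X', P) => ∑ k, a k • QC70.res F h (g k))
    (hr : -(S.r : ℤ) < 0) (p : ℕ) :
    Subsingleton (Coh69.HE (Coh.toAb F) (p + 1) (b ⁻¹ᵁ S.U)) := by
  show Subsingleton (TopCoh49.E (X := X'.toTopCat) (Coh.toAb F) (p + 1) (b ⁻¹ᵁ S.U))
  rw [← S.iSup_U']
  obtain ⟨e⟩ := TopCoh49.cech_equiv (X := X'.toTopCat) S.U' (p + 1) (Coh.toAb F) fun m a q =>
    CechComp71.subsingleton_E_affine F (S.isAffineOpen_V fun k => (a k).down) q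
  exact @Equiv.subsingleton _ _ e.symm.toEquiv (AddCommGrpCat.subsingleton_of_isZero
    ((TopCoh49.isZero_cechH_succ_iff (X := X'.toTopCat) (Coh.toAb F).obj S.U' p).2
      (S.cech_exact_basis g hg hr p)))

end Cover

theorem exists_cover_basis (hb : BlowUp.IsBlowUp b I) {N : ℕ} (hI : HasGens I N) {E : X.Modules}
    (hE : FlatMod.IsFinLocFree E) (x : X) (O : X.Opens) (hx : x ∈ O) :
    ∃ S : Cover b I, x ∈ S.U ∧ S.U ≤ O ∧ N ≤ S.r ∧
      ∃ (M : ℕ) (g : Fin M → Γ((Scheme.Modules.pullback b).obj E, b ⁻¹ᵁ S.U)),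
        ∀ (P : X'.Opens) (h : P ≤ b ⁻¹ᵁ S.U), Function.Bijective fun a : Fin M → Γ(X', P) =>
          ∑ k, a k • QC70.res ((Scheme.Modules.pullback b).obj E) h (g k) := by
  obtain ⟨U, M, s, hxU, hs⟩ := (isFinLocFree_iff).mp hE x
  obtain ⟨S, hxS, hSO, hS⟩ := exists_cover hb hI x (O ⊓ U) ⟨hx, hxU⟩
  exact ⟨S, hxS, hSO.trans inf_le_left, hS, M, _, fun P h =>
    ((Desc59.Pic.VectPush.stalkBasis_pullback b hs).restrict
      (b.preimage_mono (hSO.trans inf_le_right))).bijective h⟩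

theorem isZero_pullback_locFree (hb : BlowUp.IsBlowUp b I) {N : ℕ} (hN : 1 ≤ N) (hI : HasGens I N)
    {E : X.Modules} (hE : FlatMod.IsFinLocFree E) {q : ℕ} (hq : 1 ≤ q) :
    IsZero ((Coh.RpushAb b q).obj (Coh.toAb ((Scheme.Modules.pullback b).obj E))) := by
  obtain ⟨p, rfl⟩ : ∃ p, q = p + 1 := ⟨q - 1, by omega⟩
  haveI := isQuasicoherent_of_isFinLocFree hE
  haveI := QCPull72.isQuasicoherent_pullback b E
  refine Coh69.isZero_RpushAb_of_subsingleton b _ (p + 1) fun O x hx => ?_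
  obtain ⟨S, hxS, hSO, hS, M, g, hg⟩ := exists_cover_basis hb hI hE x O hx
  exact ⟨S.U, hSO, hxS, S.subsingleton_HE_basis g hg (by omega) p⟩

end Groth.Agent.RegImm10.BlowCech
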