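import Groth.Agent.RegImm10.BlowCech.Push
import Groth.Agent.QCPull72.Closed
import Groth.Agent.Coh69.RpushQCoh
import Groth.Agent.Rib52.Conormal

/-!
Twists restricted to the exceptional divisor.
-/

set_option autoImplicit false
set_option linter.style.haveILetI false
set_option backward.isDefEq.respectTransparency.types false

noncomputable section

universe u

open CategoryTheory CategoryTheory.Limits AlgebraicGeometry Opposite TopologicalSpace Abelian
open scoped nonZeroDivisors

namespace Groth.Agent.RegImm10.BlowCech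

open Var76 (LineBundle.IsFrame LineBundle.res LineBundle.res_res LineBundle.res_smul)

variable {X X' : Scheme.{u}} {b : X' ⟶ X} {I : X.IdealSheafData}

/-- Two terms of a short exact sequence force the vanishing of cohomology of the cokernel. -/
theorem subsingleton_HE_quot {Y : Scheme.{u}} {S : ShortComplex Y.Modules} (hS : S.ShortExact)
    (U : Y.Opens) (p : ℕ) (h2 : Subsingleton (Coh69.HE (Coh.toAb S.X₂) p U))
    (h1 : Subsingleton (Coh69.HE (Coh.toAb S.X₁) (p + 1) U)) :
    Subsingleton (Coh69.HE (Coh.toAb S.X₃) p U) := by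
  have hS' : (S.map (QC70.abSheafFunctor Y)).ShortExact := hS.map_of_exact _
  refine ⟨fun x y => ?_⟩
  suffices h : ∀ x : Coh69.HE (Coh.toAb S.X₃) p U, x = 0 by rw [h x, h y]
  intro x
  obtain ⟨z, hz⟩ := Ext.covariant_sequence_exact₃ (CohCx.freeSheaf (Opens.grothendieckTopology Y) U) hS' x (n₁ := p + 1) rfl
    (h1.elim _ _)
  have hz0 : z = 0 := Subsingleton.elim (h := h2) _ _
  rw [← hz, hz0, Ext.zero_comp]
  rfl

namespace Cover

variable (S : Cover b I) (F : X'.Modules) [F.IsQuasicoherent] {n : ℤ} (T : S.Twist F n)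

include T in
theorem exists_mul_frame (i : Fin S.r) :
    ∃ e' : Γ((Dual3.idealMul (BlowUp.exceptional b I)).obj F, (S.C i).W),
      (Dual3.idealMulι (BlowUp.exceptional b I) F).app (S.C i).W e' = pb b (S.C i).le (S.a i) • T.e i := by
  refine (QC70.mem_idealMul_iff (BlowUp.exceptional b I) F ⟨(S.C i).W, (S.C i).affine⟩ _).2
    (Submodule.smul_mem_smul ?_ trivial)
  have h := S.exceptional_ideal i 1
  rw [pow_one, pow_one] at h
  exact h.ge (Ideal.mem_span_singleton_self _)

/-- The product with the exceptional ideal. -/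
def Twist.idealMul : S.Twist ((Dual3.idealMul (BlowUp.exceptional b I)).obj F) (n + 1) where
  e i := (S.exists_mul_frame F T i).choose
  frame i := by
    let J := BlowUp.exceptional b I
    let ι := Dual3.idealMulι J F
    set e' := (S.exists_mul_frame F T i).choose with he'def
    have he' : ι.app (S.C i).W e' = pb b (S.C i).le (S.a i) • T.e i :=
      (S.exists_mul_frame F T i).choose_spec
    refine Rib52.isFrame_of_basis e' fun V hV y hy => ?_
    obtain ⟨P, hyP, hPV⟩ := Div89.exists_affine_le hy
    have hPW : P.1 ≤ (S.C i).W := hPV.trans hV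
    have hkey : ∀ c : Γ(X', P.1), ι.app P.1 (c • LineBundle.res _ hPW e') =
        (c * pb b (hPW.trans (S.C i).le) (S.a i)) • LineBundle.res F hPW (T.e i) := fun c => by
      rw [Scheme.Modules.Hom.app_smul, Mero90.app_res, he', LineBundle.res_smul, pb_res, mul_smul]
    refine ⟨P.1, hPW, hPV, hyP, fun c c' h => ?_, fun m => ?_⟩
    · have h1 : c * pb b (hPW.trans (S.C i).le) (S.a i) = c' * pb b (hPW.trans (S.C i).le) (S.a i) :=
        (T.frame i P.1 hPW).1 ((hkey c).symm.trans ((congrArg (ι.app P.1) h).trans (hkey c')))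
      refine TopCat.Presheaf.section_ext X'.sheaf P.1 c c' fun z hz => ?_
      have h2 := congrArg (X'.presheaf.germ P.1 z hz) h1
      rw [map_mul, map_mul] at h2
      refine (mul_cancel_right_mem_nonZeroDivisors ?_).1 h2
      rw [germ_pb, ← germ_pb b (S.C i).le (hPW hz)]
      exact Div89.germ_mem_nonZeroDivisors ⟨_, (S.C i).affine⟩ (S.C i).nzd z (hPW hz)
    · have hm := (QC70.mem_idealMul_iff J F P (ι.app P.1 m)).1 ⟨m, rfl⟩
      have hJ : J.ideal P = Ideal.span {pb b (hPW.trans (S.C i).le) (S.a i)} := by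
        have h := S.exceptional_ideal i 1
        rw [pow_one, pow_one] at h
        rw [Div89.ideal_res_span hPW h, pb_res]
      obtain ⟨z, hz⟩ : ∃ z : Γ(F, P.1), pb b (hPW.trans (S.C i).le) (S.a i) • z = ι.app P.1 m := by
        refine Submodule.smul_induction_on
          (p := fun w => ∃ z : Γ(F, P.1), pb b (hPW.trans (S.C i).le) (S.a i) • z = w) hm ?_ ?_
        · intro g hg z _
          rw [hJ] at hg
          obtain ⟨c, rfl⟩ := Ideal.mem_span_singleton.1 hg
          exact ⟨c • z, (mul_smul _ c z).symm⟩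
        · rintro _ _ ⟨s, rfl⟩ ⟨s', rfl⟩
          exact ⟨s + s', smul_add _ _ _⟩
      obtain ⟨c, hc⟩ := (T.frame i P.1 hPW).2 z
      refine ⟨c, QC70.app_injective_of_mono ι P.1 ?_⟩
      rw [hkey, ← hz, ← show c • LineBundle.res F hPW (T.e i) = z from hc, ← mul_smul, mul_comm]
  trans {m} t k l c hc := by
    let J := BlowUp.exceptional b I
    let ι := Dual3.idealMulι J F
    have hι : ∀ q, ι.app (S.V t) (LineBundle.res _ (S.V_le t q) (S.exists_mul_frame F T (t q)).choose) =
        pb b (S.V_le_base t) (S.a (t q)) • LineBundle.res F (S.V_le t q) (T.e (t q)) := fun q => by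
      rw [Mero90.app_res, (S.exists_mul_frame F T (t q)).choose_spec, LineBundle.res_smul, pb_res]
    obtain ⟨d, hd⟩ := (T.frame (t l) (S.V t) (S.V_le t l)).2 (LineBundle.res F (S.V_le t k) (T.e (t k)))
    have h1 := congrArg (ι.app (S.V t)) hc
    rw [Scheme.Modules.Hom.app_smul, hι, hι,
      ← show d • LineBundle.res F (S.V_le t l) (T.e (t l)) = _ from hd, ← mul_smul, ← mul_smul] at h1
    have h2 := congrArg (S.φ t) ((T.frame (t l) (S.V t) (S.V_le t l)).1 h1)
    rw [map_mul, map_mul, S.φ_pb, S.φ_pb, ← coe_au S.a t k, ← coe_au S.a t l] at h2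
    rw [zpow_add_one, zpow_add_one, Units.val_mul, Units.val_mul, ← T.trans t k l d hd]
    calc S.φ t c * (↑(au S.a t l ^ n) * ↑(au S.a t l))
        = (S.φ t c * ↑(au S.a t l)) * ↑(au S.a t l ^ n) := by ring
      _ = _ := by rw [h2]; ring

end Cover

theorem isZero_twist_exceptional (hb : BlowUp.IsBlowUp b I) {N : ℕ} (hI : HasGens I N) (F : X'.Modules)
    [F.IsQuasicoherent] (n : ℤ) (hn : -(N : ℤ) < n) (T : ∀ S : Cover b I, S.Twist F n) {q : ℕ}
    (hq : 1 ≤ q) :
    IsZero ((Coh.RpushAb b q).obj (Coh.toAb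
      ((Scheme.Modules.pushforward (BlowUp.exceptional b I).subschemeι).obj
        ((Scheme.Modules.pullback (BlowUp.exceptional b I).subschemeι).obj F)))) := by
  obtain ⟨p, rfl⟩ : ∃ p, q = p + 1 := ⟨q - 1, by omega⟩
  let J := BlowUp.exceptional b I
  haveI := QC70.isQuasicoherent_idealMul J F
  haveI : Epi (QCPull72.pullUnit J.subschemeι F) := QCPull72.epi_pullUnit J.subschemeι F
  let Sc : ShortComplex X'.Modules := ShortComplex.mk (Dual3.idealMulι J F)
    ((Scheme.Modules.pullbackPushforwardAdjunction J.subschemeι).unit.app F) (kernel.condition _)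
  have hSc : Sc.ShortExact :=
    { exact := ShortComplex.exact_of_f_is_kernel _ (kernelIsKernel _)
      mono_f := inferInstanceAs (Mono (kernel.ι _))
      epi_g := ‹Epi (QCPull72.pullUnit J.subschemeι F)› }
  refine Coh69.isZero_RpushAb_of_subsingleton b _ (p + 1) fun O x hx => ?_
  obtain ⟨S, hxS, hSO, hS⟩ := exists_cover hb hI x O hx
  exact ⟨S.U, hSO, hxS, subsingleton_HE_quot hSc _ (p + 1) (subsingleton_HE_base hn S hS (T S) p)
    (((T S).idealMul S F).subsingleton_HE (by omega) (p + 1))⟩

end Groth.Agent.RegImm10.BlowCech
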