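import Groth.Agent.RegImm10.BlowCech.Geom

/-!
Modules on a blow-up glued from the standard transition functions, and their sections on the
intersections of charts.
-/

set_option autoImplicit false
set_option linter.style.haveILetI false
set_option backward.isDefEq.respectTransparency.types false

noncomputable section

universe u

open CategoryTheory CategoryTheory.Limits AlgebraicGeometry Opposite TopologicalSpace
open scoped nonZeroDivisors

namespace Groth.Agent.RegImm10.BlowCech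

open Var76 (LineBundle.IsFrame LineBundle.res LineBundle.res_res LineBundle.res_smul)

variable {X X' : Scheme.{u}} {b : X' ⟶ X} {I : X.IdealSheafData}

namespace Cover

variable (S : Cover b I)

/-- A module which on the charts is free of rank one with the transition functions of `O(n)`. -/
structure Twist (F : X'.Modules) (n : ℤ) where
  e : ∀ i, Γ(F, (S.C i).W)
  frame : ∀ i, LineBundle.IsFrame F (S.C i).W (e i)
  trans : ∀ {m : ℕ} (t : Fin (m + 1) → Fin S.r) (k l : Fin (m + 1)) (c : Γ(X', S.V t)),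
    c • LineBundle.res F (S.V_le t l) (e (t l)) = LineBundle.res F (S.V_le t k) (e (t k)) →
      S.φ t c * ((au S.a t l ^ n : (L S.a t)ˣ) : L S.a t) = ((au S.a t k ^ n : (L S.a t)ˣ) : L S.a t)

namespace Twist

variable {S} {F : X'.Modules} {n : ℤ} (T : S.Twist F n)

theorem bij {m : ℕ} (t : Fin (m + 1) → Fin S.r) :
    Function.Bijective (fun c : Γ(X', S.V t) => c • LineBundle.res F (S.V_le t 0) (T.e (t 0))) :=
  T.frame (t 0) (S.V t) (S.V_le t 0)

/-- The coordinate with respect to the frame of the leading chart. -/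
def co {m : ℕ} (t : Fin (m + 1) → Fin S.r) (s : Γ(F, S.V t)) : Γ(X', S.V t) :=
  (Equiv.ofBijective _ (T.bij t)).symm s

theorem co_smul {m : ℕ} (t : Fin (m + 1) → Fin S.r) (s : Γ(F, S.V t)) :
    T.co t s • LineBundle.res F (S.V_le t 0) (T.e (t 0)) = s :=
  (Equiv.ofBijective _ (T.bij t)).apply_symm_apply s

theorem co_eq {m : ℕ} (t : Fin (m + 1) → Fin S.r) {c : Γ(X', S.V t)} {s : Γ(F, S.V t)}
    (h : c • LineBundle.res F (S.V_le t 0) (T.e (t 0)) = s) : T.co t s = c :=
  (T.bij t).1 ((T.co_smul t s).trans h.symm)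

theorem co_add {m : ℕ} (t : Fin (m + 1) → Fin S.r) (s s' : Γ(F, S.V t)) :
    T.co t (s + s') = T.co t s + T.co t s' :=
  T.co_eq t (by rw [add_smul, co_smul, co_smul])

/-- Sections of the twist on an intersection of charts, inside the functions off the exceptional
divisor. -/
def ψ {m : ℕ} (t : Fin (m + 1) → Fin S.r) : Γ(F, S.V t) →+ L S.a t :=
  AddMonoidHom.mk' (fun s => S.φ t (T.co t s) * ((au S.a t 0 ^ n : (L S.a t)ˣ) : L S.a t))
    (fun s s' => by rw [co_add, map_add, add_mul])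

theorem ψ_apply {m : ℕ} (t : Fin (m + 1) → Fin S.r) (s : Γ(F, S.V t)) :
    T.ψ t s = S.φ t (T.co t s) * ((au S.a t 0 ^ n : (L S.a t)ˣ) : L S.a t) := rfl

theorem ψ_res {m m' : ℕ} {t : Fin (m + 1) → Fin S.r} {t' : Fin (m' + 1) → Fin S.r}
    (h : ∀ k, ∃ k', t' k' = t k) (hle : S.V t' ≤ S.V t) (s : Γ(F, S.V t)) :
    T.ψ t' (LineBundle.res F hle s) = BlowCech.res S.a h (T.ψ t s) := by
  obtain ⟨k', hk'⟩ := h 0
  obtain ⟨d, hd⟩ := (T.bij t').2 (LineBundle.res F (S.V_le t' k') (T.e (t' k')))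
  have hW : LineBundle.res F hle (LineBundle.res F (S.V_le t 0) (T.e (t 0))) = LineBundle.res F (S.V_le t' k') (T.e (t' k')) := by
    rw [LineBundle.res_res]
    have : ∀ (i j : Fin S.r) (hi : S.V t' ≤ (S.C i).W) (hj : S.V t' ≤ (S.C j).W), i = j →
        LineBundle.res F hi (T.e i) = LineBundle.res F hj (T.e j) := by rintro i j hi hj rfl; rfl
    exact this _ _ _ _ hk'.symm
  have hco : T.co t' (LineBundle.res F hle s) = X'.presheaf.map (homOfLE (S.V_mono h)).op (T.co t s) * d := by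
    refine T.co_eq t' ?_
    rw [mul_smul, show d • LineBundle.res F (S.V_le t' 0) (T.e (t' 0)) = _ from hd, ← hW]
    conv_rhs => rw [← T.co_smul t s, LineBundle.res_smul]
  rw [ψ_apply, ψ_apply, hco, map_mul, map_mul, S.φ_res h, res_au_zpow S.a h 0 k' hk', mul_assoc,
    T.trans t' k' 0 d hd]

theorem ψ_injective {m : ℕ} (t : Fin (m + 1) → Fin S.r) : Function.Injective (T.ψ t) := by
  intro s s' h
  rw [← T.co_smul t s, ← T.co_smul t s',
    S.φ_injective t ((au S.a t 0 ^ n).isUnit.mul_right_cancel h)]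

theorem ψ_range {m : ℕ} (t : Fin (m + 1) → Fin S.r) (x : L S.a t) :
    (∃ s, T.ψ t s = x) ↔ x ∈ N S.a n t := by
  rw [mem_N_iff S.a t 0, ← S.φ_range t]
  constructor
  · rintro ⟨s, rfl⟩
    exact ⟨_, ⟨_, rfl⟩, rfl⟩
  · rintro ⟨_, ⟨y, rfl⟩, rfl⟩
    refine ⟨y • LineBundle.res F (S.V_le t 0) (T.e (t 0)), ?_⟩
    rw [ψ_apply, T.co_eq t rfl]

theorem ψ_mem {m : ℕ} (t : Fin (m + 1) → Fin S.r) (s : Γ(F, S.V t)) : T.ψ t s ∈ N S.a n t :=
  (T.ψ_range t _).1 ⟨s, rfl⟩

end Twist

end Cover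

end Groth.Agent.RegImm10.BlowCech
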