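import Groth.Agent.RegImm10.BlowCech.Restrict
import Groth.Agent.Props58.PullTensor
import Groth.Agent.Amp73.PullTensor

/-!
The products of pulled back invertible modules with powers of the exceptional ideal.
-/

set_option autoImplicit false
set_option linter.style.haveILetI false
set_option backward.isDefEq.respectTransparency.types false

noncomputable section

universe u

open CategoryTheory CategoryTheory.Limits AlgebraicGeometry Opposite TopologicalSpace
open scoped nonZeroDivisors

namespace Groth.Agent.RegImm10.BlowCech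

open Var76 (LineBundle.IsFrame LineBundle.res LineBundle.res_res LineBundle.res_smul)

theorem mem_span_pow_of_mem_N {A : Type u} [CommRing A] {r : ℕ} {a : Fin r → A} {n : ℕ}
    (t : Fin 0 → Fin r) {c : A} (h : algebraMap A (L a t) c ∈ N a (n : ℤ) t) :
    c ∈ Ideal.span (Set.range a) ^ n := by
  obtain ⟨⟨p, hp⟩, hpc⟩ := h
  obtain ⟨M, q, hq⟩ := exists_emb_eq t (Pn_le_Pb (n : ℤ) t hp)
  have htb : tb (A := A) t = 1 := by simp [tb]
  rw [htb, map_one, one_pow, one_mul] at hq
  have h1 : algebraMap A (L a t) c = algebraMap A (L a t) (evQ a q) := by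
    rw [← hpc, ← ev_algebraMap]
    show ev a t _ = ev a t _
    congr 1
    exact Subtype.ext hq.symm
  obtain ⟨⟨_, K, rfl⟩, hK⟩ := (IsLocalization.eq_iff_exists (Submonoid.powers (ab a t)) _).1 h1
  have hc : c = evQ a q := by simpa [ab] using hK
  rw [hc]
  have hsupp : ∀ e ∈ q.support, (n : ℤ) ≤ ∑ j, (e (some j) : ℤ) := by
    intro e he
    have hne : p.coeff (castGr r e) ≠ 0 := by
      rw [← hq, coeff_emb_apply]
      exact MvPolynomial.mem_support_iff.1 he
    have hd : deg (castGr r e) = (n : ℤ) := by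
      by_contra hcon
      exact hne (mem_Pn.1 hp (castGr r e) fun h' => hcon h'.2)
    rw [deg_apply] at hd
    simp [castGr] at hd
    omega
  rw [q.as_sum, map_sum]
  refine Ideal.sum_mem _ fun e he => ?_
  have h2 : evQ a (MvPolynomial.monomial e (q.coeff e)) = q.coeff e * ∏ j, a j ^ e (some j) := by
    simp [evQ, MvPolynomial.aeval_monomial, Finsupp.prod_fintype, Fintype.prod_option]
  rw [h2]
  refine Ideal.mul_mem_left _ _ ?_
  have h3 : ∏ j, a j ^ e (some j) ∈ Ideal.span (Set.range a) ^ (∑ j, e (some j)) := by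
    rw [← Finset.prod_pow_eq_pow_sum]
    exact Ideal.prod_mem_prod fun j _ => Ideal.pow_mem_pow
      (Ideal.subset_span (s := Set.range a) ⟨j, rfl⟩) _
  refine Ideal.pow_le_pow_right ?_ h3
  have := hsupp e he
  exact_mod_cast this

variable {X X' : Scheme.{u}} {b : X' ⟶ X} {I : X.IdealSheafData}

variable (b I) in
/-- `b^*L` times the `n`-th power of the exceptional ideal. -/
abbrev pullMul (M : X.Modules) (n : ℕ) : X'.Modules :=
  CohB1.tensorMod ((Scheme.Modules.pullback b).obj M) (ClSub.idealMod ((BlowUp.exceptional b I) ^ n))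

/-- Multiplication of sections by functions in an ideal. -/
def mulPairing (P : X'.Modules) (J : X'.IdealSheafData) :
    Mero90.Pairing P (ClSub.idealMod J) P where
  b U m j := OmegaSh.idealSect J U j • m
  add_left U m m' j := smul_add _ _ _
  add_right U m j j' := by rw [map_add, add_smul]
  smul_left U c m j := smul_comm _ _ _
  smul_right U c m j := by rw [Omega57.idealSect_smul, mul_smul]
  nat U V h m j := by rw [Curves2.idealSect_res, LineBundle.res_smul]

variable (b I) in
/-- The inclusion into the pull back. -/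
def pullMulι (M : X.Modules) (n : ℕ) : pullMul b I M n ⟶ (Scheme.Modules.pullback b).obj M :=
  (mulPairing ((Scheme.Modules.pullback b).obj M) ((BlowUp.exceptional b I) ^ n)).lift

theorem pullMulι_tm (M : X.Modules) (n : ℕ) {U : X'.Opens} (m : Γ((Scheme.Modules.pullback b).obj M, U))
    (j : Γ(ClSub.idealMod ((BlowUp.exceptional b I) ^ n), U)) :
    (pullMulι b I M n).app U
      (Amp73.tm ((Scheme.Modules.pullback b).obj M) (ClSub.idealMod ((BlowUp.exceptional b I) ^ n)) m j) =
      OmegaSh.idealSect ((BlowUp.exceptional b I) ^ n) U j • m :=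
  Mero90.Pairing.lift_tmul _ U m j

namespace Cover

variable (S : Cover b I) {M : X.Modules} {e : Γ(M, S.U)} (he : LineBundle.IsFrame M S.U e) (n : ℕ)

include he in
theorem frame_pull : LineBundle.IsFrame ((Scheme.Modules.pullback b).obj M) (b ⁻¹ᵁ S.U)
    (Amp73.pullS b M S.U e) := Props58.PullTensor.isFrame_pullS b he

/-- The frames on the charts. -/
def ePull (e : Γ(M, S.U)) (n : ℕ) (i : Fin S.r) : Γ(pullMul b I M n, (S.C i).W) :=
  Amp73.tm _ _ (LineBundle.res _ (S.C i).le (Amp73.pullS b M S.U e)) (S.eI n i)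

theorem pullMulι_ePull (i : Fin S.r) {P : X'.Opens} (h : P ≤ (S.C i).W) :
    (pullMulι b I M n).app P (LineBundle.res _ h (S.ePull e n i)) =
      (pb b (h.trans (S.C i).le) (S.a i) ^ n) •
        LineBundle.res _ (h.trans (S.C i).le) (Amp73.pullS b M S.U e) := by
  rw [Mero90.app_res, ePull, pullMulι_tm, idealSect_eI, LineBundle.res_smul, LineBundle.res_res,
    map_pow, pb_res]

include he in
/-- The product with the pulled back frame as a twist. -/
def twistPull : S.Twist (pullMul b I M n) (n : ℤ) where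
  e := S.ePull e n
  frame i := Amp73.isFrame_tm ((S.frame_pull he).res (S.C i).le) (S.frame_eI n i)
  trans {m} t k l c hc := by
    have h := congrArg ((pullMulι b I M n).app (S.V t)) hc
    rw [Scheme.Modules.Hom.app_smul, S.pullMulι_ePull, S.pullMulι_ePull, ← mul_smul] at h
    have h' := congrArg (S.φ t) ((S.frame_pull he (S.V t) (S.V_le_base t)).1 h)
    simp only [map_mul, map_pow, S.φ_pb] at h'
    simpa only [zpow_natCast, Units.val_pow_eq_pow_val, coe_au] using h'

include he in
theorem ψ_of_image {s : Γ(pullMul b I M n, b ⁻¹ᵁ S.U)} {c : Γ(X, S.U)}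
    (h : (pullMulι b I M n).app (b ⁻¹ᵁ S.U) s = b.app S.U c • Amp73.pullS b M S.U e) (i : Fin S.r) :
    (S.twistPull he n).ψ (fun _ : Fin 1 => i) (LineBundle.res _ (S.V_le_base _) s) =
      algebraMap Γ(X, S.U) (L S.a fun _ : Fin 1 => i) c := by
  set t : Fin 1 → Fin S.r := fun _ => i
  obtain ⟨d, hd⟩ := ((S.twistPull he n).bij t).2 (LineBundle.res _ (S.V_le_base t) s)
  rw [Twist.ψ_apply, (S.twistPull he n).co_eq t hd]
  have h1 := congrArg ((pullMulι b I M n).app (S.V t)) hd
  rw [Scheme.Modules.Hom.app_smul, Mero90.app_res _ (S.V_le_base t), h, LineBundle.res_smul] at h1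
  erw [S.pullMulι_ePull] at h1
  rw [← mul_smul] at h1
  have h2 := congrArg (S.φ t) ((S.frame_pull he (S.V t) (S.V_le_base t)).1 h1)
  rw [map_mul, map_pow, S.φ_pb] at h2
  rw [zpow_natCast, Units.val_pow_eq_pow_val, coe_au]
  exact h2.trans (S.φ_pb t c)

include he in
theorem pullMulι_injective {P : X'.Opens} (i : Fin S.r) (h : P ≤ (S.C i).W) :
    Function.Injective ((pullMulι b I M n).app P) := by
  intro x y hxy
  have hfr := Amp73.isFrame_tm ((S.frame_pull he).res (S.C i).le) (S.frame_eI n i)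
  obtain ⟨c, rfl⟩ := (hfr P h).2 x
  obtain ⟨c', rfl⟩ := (hfr P h).2 y
  have h1 : c • (pullMulι b I M n).app P (LineBundle.res _ h (S.ePull e n i)) =
      c' • (pullMulι b I M n).app P (LineBundle.res _ h (S.ePull e n i)) := by
    rw [← Scheme.Modules.Hom.app_smul, ← Scheme.Modules.Hom.app_smul]
    exact hxy
  rw [S.pullMulι_ePull, ← mul_smul, ← mul_smul] at h1
  have h2 := (S.frame_pull he P (h.trans (S.C i).le)).1 h1
  refine congrArg (fun z => z • _) (TopCat.Presheaf.section_ext X'.sheaf P c c' fun z hz => ?_)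
  have h3 := congrArg (X'.presheaf.germ P z hz) h2
  rw [map_mul, map_mul, map_pow] at h3
  refine (mul_cancel_right_mem_nonZeroDivisors (pow_mem ?_ n)).1 h3
  rw [germ_pb, ← germ_pb b (S.C i).le (h hz)]
  exact Div89.germ_mem_nonZeroDivisors ⟨_, (S.C i).affine⟩ (S.C i).nzd z (h hz)

include he in
theorem pullMulι_injective_base :
    Function.Injective ((pullMulι b I M n).app (b ⁻¹ᵁ S.U)) := fun s s' h => by
  refine Var76.ZeroScheme.eq_of_locally _ s s' fun x hx => ?_
  obtain ⟨i, hi⟩ := exists_mem_chart S.hb S.hU S.span_eq S.C hx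
  refine ⟨(S.C i).W, (S.C i).le, hi, S.pullMulι_injective he n i le_rfl ?_⟩
  rw [Mero90.app_res, Mero90.app_res, h]

include he in
theorem mem_pow_of_image (hr : 1 ≤ S.r) {s : Γ(pullMul b I M n, b ⁻¹ᵁ S.U)} {c : Γ(X, S.U)}
    (h : (pullMulι b I M n).app (b ⁻¹ᵁ S.U) s = b.app S.U c • Amp73.pullS b M S.U e) :
    c ∈ I.ideal ⟨S.U, S.hU⟩ ^ n := by
  let T := S.twistPull he n
  have hψ : ∀ i : Fin S.r, algebraMap Γ(X, S.U) (L S.a fun _ : Fin 1 => i) c ∈ N S.a (n : ℤ) (fun _ : Fin 1 => i) :=
    fun i => S.ψ_of_image he n h i ▸ T.ψ_mem _ _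
  have hconst : ∀ t : Fin (0 + 1) → Fin S.r, t = fun _ => t 0 := fun t =>
    funext fun k => congrArg t (Subsingleton.elim (α := Fin 1) k 0)
  have hN : ∀ t : Fin (0 + 1) → Fin S.r, algebraMap Γ(X, S.U) (L S.a t) c ∈ N S.a (n : ℤ) t := fun t => by
    rw [hconst t]
    exact hψ (t 0)
  have hd : ∀ t : Fin (0 + 1 + 1) → Fin S.r, ∑ j : Fin (0 + 1 + 1),
      (-1 : ℤ) ^ (j : ℕ) • BlowCech.res S.a (le_face t j) (algebraMap Γ(X, S.U) (L S.a (t ∘ j.succAbove)) c) = 0 := by
    intro t
    simp only [AlgHom.commutes]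
    simp
  obtain ⟨w, hw, hwz⟩ := exists_face S.kr (n := (n : ℤ)) (by omega) 0
    (fun t => algebraMap Γ(X, S.U) (L S.a t) c) hN hd
  obtain ⟨c', hc'⟩ := algebraMap_L_surjective S.a Fin.elim0 (w Fin.elim0)
  have hcc : algebraMap Γ(X, S.U) (L S.a Fin.elim0) c = w Fin.elim0 := by
    refine sub_eq_zero.1 (eq_zero_of_res S.kr (n := 0) (by omega) _ ?_ fun i => ?_)
    · rw [← hc', ← map_sub]
      exact algebraMap_mem_N S.a le_rfl _ _
    · have : ∀ (t t' : Fin 0 → Fin S.r) (e : t = t'),
          cast (congrArg (L S.a) e) (algebraMap Γ(X, S.U) (L S.a t) c - w t) =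
            algebraMap _ _ c - w t' := by
        rintro t t' rfl; rfl
      rw [this _ _ (Subsingleton.elim _ _), map_sub, AlgHom.commutes, sub_eq_zero]
      refine (hwz fun _ => i).trans ?_
      rw [Fin.sum_univ_one, Fin.val_zero, pow_zero, one_smul]
  have hmem := hw Fin.elim0
  rw [← hcc] at hmem
  exact S.span_eq ▸ mem_span_pow_of_mem_N _ hmem

include he in
theorem exists_image {c : Γ(X, S.U)} (hc : c ∈ I.ideal ⟨S.U, S.hU⟩ ^ n) :
    ∃ s, (pullMulι b I M n).app (b ⁻¹ᵁ S.U) s = b.app S.U c • Amp73.pullS b M S.U e := by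
  have hdiv : ∀ i, ∃ d : Γ(X', (S.C i).W), pb b (S.C i).le c = d * pb b (S.C i).le (S.a i) ^ n := fun i => by
    have h1 := Ideal.mem_map_of_mem (pb b (S.C i).le) hc
    have h2 : (I.ideal ⟨S.U, S.hU⟩ ^ n).map (pb b (S.C i).le) ≤ Ideal.span {pb b (S.C i).le (S.a i) ^ n} := by
      rw [Ideal.map_pow, ← Ideal.span_singleton_pow]
      refine Ideal.pow_right_mono (le_of_eq ?_) n
      have h := S.exceptional_ideal i 1
      rw [pow_one, pow_one] at h
      rw [← h]
      exact (MP99.ideal_comap I b ⟨S.U, S.hU⟩ ⟨(S.C i).W, (S.C i).affine⟩ (S.C i).le).symm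
    obtain ⟨d, hd⟩ := Ideal.mem_span_singleton'.1 (h2 h1)
    exact ⟨d, hd.symm⟩
  choose d hd using hdiv
  have hloc : ∀ i, (pullMulι b I M n).app (S.C i).W (d i • S.ePull e n i) =
      LineBundle.res _ (S.C i).le (b.app S.U c • Amp73.pullS b M S.U e) := fun i => by
    have h := S.pullMulι_ePull (e := e) n i (le_refl (S.C i).W)
    have hres : LineBundle.res (pullMul b I M n) (le_refl (S.C i).W) (S.ePull e n i) = S.ePull e n i := by
      simp [LineBundle.res]
    rw [hres] at h
    rw [Scheme.Modules.Hom.app_smul, h, ← mul_smul, ← hd, LineBundle.res_smul]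
    rfl
  have hcompat : TopCat.Presheaf.IsCompatible
      (⟨(pullMul b I M n).presheaf, (pullMul b I M n).isSheaf⟩ : TopCat.Sheaf Ab X').obj
      (fun i => (S.C i).W) (fun i => d i • S.ePull e n i) := fun i j => by
    refine S.pullMulι_injective he n i inf_le_left ?_
    show (pullMulι b I M n).app _ (LineBundle.res _ inf_le_left _) =
      (pullMulι b I M n).app _ (LineBundle.res _ inf_le_right _)
    rw [Mero90.app_res, Mero90.app_res, hloc, hloc, LineBundle.res_res, LineBundle.res_res]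
  obtain ⟨s, hs, -⟩ := TopCat.Sheaf.existsUnique_gluing'
    (⟨(pullMul b I M n).presheaf, (pullMul b I M n).isSheaf⟩ : TopCat.Sheaf Ab X')
    (fun i => (S.C i).W) (b ⁻¹ᵁ S.U) (fun i => homOfLE (S.C i).le)
    (fun x hx => Opens.mem_iSup.2 (exists_mem_chart S.hb S.hU S.span_eq S.C hx)) _ hcompat
  refine ⟨s, Var76.ZeroScheme.eq_of_locally _ _ _ fun x hx => ?_⟩
  obtain ⟨i, hi⟩ := exists_mem_chart S.hb S.hU S.span_eq S.C hx
  refine ⟨(S.C i).W, (S.C i).le, hi, ?_⟩
  rw [← Mero90.app_res, show LineBundle.res (pullMul b I M n) (S.C i).le s = d i • S.ePull e n i from hs i,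
    hloc]

end Cover

end Groth.Agent.RegImm10.BlowCech
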